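import Groth.Agent.Lib.MeroLib.ZeroScheme
import Groth.Agent.Lib.Ample18.Gen

/-!
# The underlying set of the zero scheme of a section
-/

set_option autoImplicit false
set_option linter.style.haveILetI false
set_option backward.isDefEq.respectTransparency false

universe u

open CategoryTheory CategoryTheory.Limits AlgebraicGeometry TopologicalSpace Opposite

noncomputable section

namespace Groth.Agent.TZ11

open Groth.Agent

theorem support_zeroScheme {X : Scheme.{u}} {L : X.Modules} (hL : PicF.IsInvertible L)
    (s : Coh.structureModule X ⟶ L) :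
    ((PicF2.zeroScheme L s).support : Set X) = (CohB1.genLocus L s : Set X)ᶜ := by
  ext x
  obtain ⟨U, e, a, hxU, -, hU, he, ha, heq⟩ := Amp.exists_local hL s (V := ⊤) (x := x) trivial
  have hc : MeroLib.sval L s U = a • e := (Amp.res_gval s U).symm.trans ha.symm
  have hb : Function.Bijective fun r : Γ(X, U) => r • e := by
    have := he U le_rfl
    simpa only [M2.res_self] using this
  rw [SetLike.mem_coe, Scheme.IdealSheafData.mem_support_iff_of_mem (U := ⟨U, hU⟩) hxU,
    MeroLib.zeroScheme_ideal L s hL ⟨U, hU⟩, MeroLib.zI_eq_span L s e hb a hc, Scheme.zeroLocus_span,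
    Scheme.mem_zeroLocus_iff]
  simp only [Set.mem_singleton_iff, forall_eq, Set.mem_compl_iff, SetLike.mem_coe]
  rw [← heq]
  exact ⟨fun h hx => h ⟨hx, hxU⟩, fun h hx => h hx.1⟩

end Groth.Agent.TZ11
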