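import Groth.Agent.Lib.TateZero11.Hyper
import Groth.Agent.Lib.TateZero11.Support
import Groth.Agent.Lib.EnriquesSeveri11.Proper
import Groth.Agent.Lib.FormalH7.Power
import Groth.Agent.Lib.PushNatH7.Basic
import Groth.Agent.Lib.CohFound.EmbedPow
import Groth.Agent.Lib.EffCartier.Comap

/-!
# Transition maps that kill cohomology, on a proper scheme over a field
-/

set_option autoImplicit false
set_option linter.style.haveILetI false
set_option linter.unusedSectionVars false
set_option backward.isDefEq.respectTransparency false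

universe u

open CategoryTheory CategoryTheory.Limits AlgebraicGeometry TopologicalSpace Opposite

noncomputable section

namespace Groth.Agent.TZ11

open Groth.Agent IdealMulL

variable {X P : Scheme.{u}}

theorem exists_incl_of_le {A B : X.IdealSheafData} (h : A ≤ B) (F : X.Modules) [Coh.IsQCoh F] :
    ∃ ι : (Dual3.idealMul A).obj F ⟶ (Dual3.idealMul B).obj F,
      ι ≫ Dual3.idealMulι B F = Dual3.idealMulι A F := by
  haveI : Coh.IsQCoh ((Dual3.idealMul A).obj F) := isQCoh_idl F _ ‹_›
  exact exists_lift_affine _ (idl F B) (fun W : X.affineOpens => W) exists_affine_cover fun W m => by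
    rw [mem_idl]
    exact Submodule.smul_mono_left (h W) ((mem_idl F A W _).1 ⟨m, rfl⟩)

section Push

variable (j : X ⟶ P) [IsClosedImmersion j] (J : P.IdealSheafData) (F : X.Modules) [Coh.IsQCoh F]

theorem exists_push_to (m : ℕ) :
    ∃ c : (Scheme.Modules.pushforward j).obj (pm (J.comap j) m F) ⟶ pm J m ((Scheme.Modules.pushforward j).obj F),
      c ≫ pmι J m _ = (Scheme.Modules.pushforward j).map (pmι (J.comap j) m F) := by
  haveI hG : Coh.IsQCoh ((Scheme.Modules.pushforward j).obj F) := M1.isQCoh_push j ‹_›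
  haveI : Coh.IsQCoh ((Scheme.Modules.pushforward j).obj (pm (J.comap j) m F)) :=
    M1.isQCoh_push j (isQCoh_idl F _ ‹_›)
  refine exists_lift_affine _ (idl _ (J ^ m)) (fun W : P.affineOpens => W) exists_affine_cover fun W t => ?_
  rw [mem_idl]
  let V : X.affineOpens := ⟨j ⁻¹ᵁ W.1, W.2.preimage j⟩
  have hm := (mem_idl F ((J.comap j) ^ m) V ((pmι (J.comap j) m F).app V.1 t)).1 ⟨t, rfl⟩
  rw [← BlowUpExist.comap_pow, EffCartier.comap_ideal (J ^ m) j W V le_rfl, ← Scheme.Hom.app_eq_appLE] at hm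
  let S : Submodule Γ(P, W.1) Γ((Scheme.Modules.pushforward j).obj F, W.1) := (J ^ m).ideal W • ⊤
  suffices h : ∀ s : Γ(F, V.1), s ∈ ((J ^ m).ideal W).map (j.app W.1).hom •
      (⊤ : Submodule Γ(X, V.1) Γ(F, V.1)) → (show Γ((Scheme.Modules.pushforward j).obj F, W.1) from s) ∈ S from
    h _ hm
  intro s hs
  refine Submodule.smul_induction_on hs (fun r hr v _ => ?_) (fun p q hp hq => S.add_mem hp hq)
  induction hr using Submodule.span_induction generalizing v with
  | mem r hr =>
    obtain ⟨a, ha, rfl⟩ := hr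
    exact Submodule.smul_mem_smul (n := (show Γ((Scheme.Modules.pushforward j).obj F, W.1) from v)) ha
      Submodule.mem_top
  | zero =>
    rw [show ((0 : Γ(X, V.1)) • v) = 0 from zero_smul _ _]
    exact S.zero_mem
  | add r r' _ _ h h' =>
    rw [add_smul]
    exact S.add_mem (h v trivial) (h' v trivial)
  | smul b r _ h =>
    rw [smul_eq_mul, mul_comm, mul_smul]
    exact h (b • v) trivial

theorem exists_push_from (m : ℕ) :
    ∃ c : pm J m ((Scheme.Modules.pushforward j).obj F) ⟶ (Scheme.Modules.pushforward j).obj (pm (J.comap j) m F),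
      c ≫ (Scheme.Modules.pushforward j).map (pmι (J.comap j) m F) = pmι J m _ := by
  haveI hG : Coh.IsQCoh ((Scheme.Modules.pushforward j).obj F) := M1.isQCoh_push j ‹_›
  haveI : Coh.IsQCoh (pm J m ((Scheme.Modules.pushforward j).obj F)) := isQCoh_idl _ _ hG
  haveI : Mono ((Scheme.Modules.pushforward j).map (pmι (J.comap j) m F)) :=
    haveI := (Scheme.Modules.pullbackPushforwardAdjunction j).isRightAdjoint
    inferInstance
  refine exists_lift_affine _ (⟨_, (Scheme.Modules.pushforward j).map (pmι (J.comap j) m F), inferInstance⟩ : M1.Sub _)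
    (fun W : P.affineOpens => W) exists_affine_cover fun W t => ?_
  let V : X.affineOpens := ⟨j ⁻¹ᵁ W.1, W.2.preimage j⟩
  have hm := (mem_idl _ (J ^ m) W ((pmι J m ((Scheme.Modules.pushforward j).obj F)).app W.1 t)).1 ⟨t, rfl⟩
  let T : Submodule Γ(X, V.1) Γ(F, V.1) := ((J.comap j) ^ m).ideal V • ⊤
  suffices h : ∀ s : Γ((Scheme.Modules.pushforward j).obj F, W.1), s ∈ (J ^ m).ideal W •
      (⊤ : Submodule Γ(P, W.1) Γ((Scheme.Modules.pushforward j).obj F, W.1)) → (show Γ(F, V.1) from s) ∈ T from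
    (mem_idl F ((J.comap j) ^ m) V _).2 (h _ hm)
  intro s hs
  refine Submodule.smul_induction_on hs (fun a ha v _ => ?_) (fun p q hp hq => T.add_mem hp hq)
  refine Submodule.smul_mem_smul (r := j.app W.1 a) (n := (show Γ(F, V.1) from v)) ?_ Submodule.mem_top
  rw [← BlowUpExist.comap_pow, EffCartier.comap_ideal (J ^ m) j W V le_rfl, ← Scheme.Hom.app_eq_appLE]
  exact Ideal.mem_map_of_mem _ ha

/-- Vanishing descends along a closed immersion. -/
theorem van_of_push {i : ℕ} (h : Van J ((Scheme.Modules.pushforward j).obj F) i) : Van (J.comap j) F i := by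
  obtain ⟨T, hT⟩ := PushNatH7.exists_HH_push_natural j i
  intro m
  obtain ⟨m', hle, hm'⟩ := h m
  refine ⟨m', hle, fun ι hι x => ?_⟩
  obtain ⟨c, hc⟩ := exists_push_to j J F m'
  obtain ⟨d, hd⟩ := exists_push_from j J F m
  haveI : Coh.IsQCoh ((Scheme.Modules.pushforward j).obj F) := M1.isQCoh_push j ‹_›
  obtain ⟨e, he⟩ := exists_inclusion J (G := (Scheme.Modules.pushforward j).obj F) hle
  haveI : Mono ((Scheme.Modules.pushforward j).map (pmι (J.comap j) m F)) :=
    haveI := (Scheme.Modules.pullbackPushforwardAdjunction j).isRightAdjoint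
    inferInstance
  have hfac : (Scheme.Modules.pushforward j).map ι = c ≫ e ≫ d := by
    rw [← cancel_mono ((Scheme.Modules.pushforward j).map (pmι (J.comap j) m F)), ← Functor.map_comp, hι,
      Category.assoc, Category.assoc, hd]
    change _ = c ≫ e ≫ Dual3.idealMulι (J ^ m) _
    rw [he]
    exact hc.symm
  obtain ⟨y, rfl⟩ := (T _ (isQCoh_idl F _ ‹_›)).surjective x
  refine (hT _ _ (isQCoh_idl F _ ‹_›) (isQCoh_idl F _ ‹_›) ι y).symm.trans ?_
  have h0 : Sheaf.H.map ((SheafOfModules.toSheaf _).map ((Scheme.Modules.pushforward j).map ι)) i y = 0 := by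
    rw [hfac]
    simp only [Functor.map_comp]
    erw [CategoryTheory.Sheaf.H.map_comp_apply, CategoryTheory.Sheaf.H.map_comp_apply]
    rw [show Sheaf.H.map ((SheafOfModules.toSheaf _).map e) i
      (Sheaf.H.map ((SheafOfModules.toSheaf _).map c) i y) = 0 from hm' e he _]
    exact map_zero _
  rw [h0]
  exact map_zero _

end Push

/-- Only the radical of the ideal matters. -/
theorem van_of_cofinal {I I' : X.IdealSheafData} {F : X.Modules} [Coh.IsQCoh F] {a b : ℕ}
    (h1 : I ^ (a + 1) ≤ I') (h2 : I' ^ (b + 1) ≤ I) {i : ℕ} (h : Van I' F i) : Van I F i := by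
  intro m
  obtain ⟨M', hMm, hM'⟩ := h ((b + 1) * m)
  have hle : ∀ {A B : X.IdealSheafData}, A ≤ B → ∀ n : ℕ, A ^ n ≤ B ^ n := fun hAB n W => Ideal.pow_right_mono (hAB W) n
  refine ⟨max m ((a + 1) * M'), le_max_left _ _, fun ι hι x => ?_⟩
  obtain ⟨u, hu⟩ := exists_inclusion I (G := F) (le_max_right m ((a + 1) * M'))
  obtain ⟨v, hv⟩ := exists_incl_of_le (show I ^ ((a + 1) * M') ≤ I' ^ M' by
    rw [pow_mul]; exact hle h1 M') F
  obtain ⟨w, hw⟩ := exists_incl_of_le (show I' ^ ((b + 1) * m) ≤ I ^ m by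
    rw [pow_mul]; exact hle h2 m) F
  · obtain ⟨e, he⟩ := exists_inclusion I' (G := F) hMm
    have hfac : ι = u ≫ v ≫ e ≫ w := by
      rw [← cancel_mono (pmι I m F), hι]
      simp only [Category.assoc]
      change _ = u ≫ v ≫ e ≫ w ≫ Dual3.idealMulι (I ^ m) F
      rw [hw, he, hv, hu]
    rw [hfac]
    simp only [CurveCoh17.hmap₀, Functor.map_comp]
    erw [CategoryTheory.Sheaf.H.map_comp_apply, CategoryTheory.Sheaf.H.map_comp_apply,
      CategoryTheory.Sheaf.H.map_comp_apply]
    erw [hM' e he]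
    exact map_zero _

section Main

variable {k : Type u} [Field k]

theorem exists_lift_genLocus {N : ℕ} (j : X ⟶ CohB1.ProjSpace N k) [IsClosedImmersion j] {L : X.Modules}
    (hL : PicF.IsInvertible L) {d : ℕ} (hd : 0 < d)
    (e1 : (Scheme.Modules.pullback j).obj (_root_.Twist.twistProjSpace N k 1) ≅ CohB1.tensorPow L d)
    (s : Coh.structureModule X ⟶ L) :
    ∃ (q : ℕ) (σ : Coh.structureModule (CohB1.ProjSpace N k) ⟶ (CMReg18.projData k N).O (q : ℤ)),
      0 < q ∧ j ⁻¹ᵁ CohB1.genLocus ((CMReg18.projData k N).O (q : ℤ)) σ = CohB1.genLocus L s := by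
  haveI : IsLocallyNoetherian (CohB1.ProjSpace N k) := CohFound.ProjNum.isLocallyNoetherian_projSpace N k
  obtain ⟨e, he, hej⟩ := CIProj14.isIso_lift j j.ker.subschemeι (Scheme.IdealSheafData.ker_subschemeι _).symm
  haveI := he
  have hI : Coh.IsCoh (ClSub.idealMod j.ker) :=
    M1.isCoh_kernel (Snapper.isCoh_of_isInvertible (PicLoc.isInvertible_structureModule _))
      (M1.isQCoh_push j.ker.subschemeι (M1.isQCoh_structureModule _)) _
  obtain ⟨q₀, hq₀⟩ := CohFound.ProjNum.serre_vanishing N k 1 Nat.one_pos (ClSub.idealMod j.ker) hI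
  let q := q₀ + 1
  let D' := CMReg18.TwistData.pullback (CMReg18.projData k N) j
  let e1' : D'.O 1 ≅ CohB1.tensorPow L d := e1
  have h0 : Amp.HasSec L 1 (CohB1.genLocus L s) :=
    Amp.hasSec_of_iso (M2.tensorLUnit L).symm s
  obtain ⟨a, ha⟩ := Nat.exists_eq_succ_of_ne_zero (Nat.mul_pos hd (Nat.succ_pos q₀)).ne'
  have h1 : Amp.HasSec L (d * q) (CohB1.genLocus L s) := (h0.powPow hL a).of_eq (by
    show 1 * (a + 1) = d * (q₀ + 1)
    rw [one_mul]; exact ha.symm)
  obtain ⟨τ₀, hτ₀⟩ := h1.to_tensorPow.map_iso e1'.symm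
  let τ : Coh.structureModule X ⟶ D'.O (q : ℤ) := τ₀ ≫ (D'.powIso q).hom
  have hτ : CohB1.genLocus (D'.O (q : ℤ)) τ = CohB1.genLocus L s :=
    (Amp.genLocus_comp_iso _ _).trans hτ₀
  let M := (CMReg18.projData k N).O (q : ℤ)
  have hM : PicF.IsInvertible M := (CMReg18.projData k N).inv _
  have hsurj : Function.Surjective (M2.pullSec j.ker.subschemeι M (U := ⊤)) :=
    CIProj14.surjective_pullSec j.ker M hM ((CohFound.subsingleton_HH_iff _ _).2
      (CohFound.subsingleton_hc_of_iso (M2.tensorComm (ClSub.idealMod j.ker) M) 1 ⊤ (hq₀ q (Nat.le_succ _))))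
  haveI : IsIso ((Scheme.Modules.pullbackPushforwardAdjunction e).unit.app
      ((Scheme.Modules.pullback j.ker.subschemeι).obj M)) :=
    CIProj14.isIso_unit_of_isIso e _ (Twist.isQCoh_of_isInvertible (Twist.isInvertible_pullback _ hM))
  have hjs : Function.Surjective (M2.pullSec j M (U := ⊤)) := by
    rw [← hej]
    intro t
    let t' := ((Scheme.Modules.pullbackComp e j.ker.subschemeι).inv.app M).app ⊤ t
    obtain ⟨u, hu⟩ := (ConcreteCategory.bijective_of_isIso
      (((Scheme.Modules.pullbackPushforwardAdjunction e).unit.app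
        ((Scheme.Modules.pullback j.ker.subschemeι).obj M)).app ⊤)).2 t'
    obtain ⟨w, rfl⟩ := hsurj u
    refine ⟨w, (ConcreteCategory.bijective_of_isIso
      (((Scheme.Modules.pullbackComp e j.ker.subschemeι).inv.app M).app ⊤)).1 ?_⟩
    exact (VA11.pullbackComp_inv_pullSec e j.ker.subschemeι M w).trans hu
  obtain ⟨t, ht⟩ := hjs (Amp.gval τ)
  refine ⟨q, M1.secHom t, Nat.succ_pos _, ?_⟩
  rw [← hτ]
  ext y
  show j y ∈ CohB1.genLocus M (M1.secHom t) ↔ y ∈ CohB1.genLocus (D'.O (q : ℤ)) τ
  rw [Amp.mem_genLocus_iff hM, Amp.mem_genLocus_iff (D'.inv _), Amp.gval_secHom, ← ht]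
  exact (Amp.gen_pullSec_iff j hM (U := ⊤) (y := y) trivial t).symm

/-- A closed immersion preserves the dimension of closures. -/
theorem dim_closure_image (j : X ⟶ P) [IsClosedImmersion j] (z : X) :
    topologicalKrullDim ↥(closure ({j z} : Set P)) = topologicalKrullDim ↥(closure ({z} : Set X)) := by
  have h : closure ({j z} : Set P) = j '' closure ({z} : Set X) := by
    rw [← Set.image_singleton]
    exact (j.isClosedEmbedding.isClosedMap.closure_image_eq_of_continuous j.continuous _)
  rw [h]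
  exact ((j.isClosedEmbedding.isEmbedding.homeomorphImage _).isHomeomorph.topologicalKrullDim_eq _).symm

/-- For a proper scheme over a field and the zero set of a section of an ample module: transition maps
kill cohomology up to degree `n` when `depth + dim > n` off that set. -/
theorem van_zeroScheme (f : X ⟶ Spec (CommRingCat.of k)) [IsProper f] {L : X.Modules}
    (hamp : CohB1.IsAmple L) (s : Coh.structureModule X ⟶ L) {F : X.Modules} (hF : Coh.IsCoh F) (n : ℕ)
    (hd : ∀ x : X, x ∉ ((PicF2.zeroScheme L s).support : Set X) →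
      (n : WithBot ℕ∞) < (LocCoh.depth (X.presheaf.stalk x) (F.presheaf.stalk x) : WithBot ℕ∞) +
        topologicalKrullDim ↥(closure ({x} : Set X)))
    {i : ℕ} (hi : i ≤ n) : Van (PicF2.zeroScheme L s) F i := by
  letI : X.Over (Spec (CommRingCat.of k)) := ⟨f⟩
  haveI := hF.1
  haveI : AlgebraicGeometry.IsNoetherian X := CohFound.isNoetherian_of_isProper f
  have hL : PicF.IsInvertible L := (Amp.isAmple_iff.1 hamp).1
  let I := PicF2.zeroScheme L s
  have hsupp := support_zeroScheme hL s
  by_cases hne : (CohB1.genLocus L s : Set X).Nonempty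
  · obtain ⟨N, d, j, hdpos, hj, -, ⟨e1⟩⟩ := CohFound.exists_closedImmersion_pow_of_isAmple f hamp
    haveI := hj
    obtain ⟨q, σ, hq, hσ⟩ := exists_lift_genLocus j hL hdpos e1 s
    obtain ⟨z, hz⟩ := hne
    obtain ⟨J, hJs, hJa, hJv⟩ := exists_hyper hq σ ⟨j z, by
      rw [← hσ] at hz
      exact hz⟩
    have hsame : ((J.comap j).support : Set X) = I.support := by
      rw [Scheme.IdealSheafData.support_comap, hsupp, ← hσ]
      show j ⁻¹' (J.support : Set (CohB1.ProjSpace N k)) = _
      rw [← compl_compl (J.support : Set (CohB1.ProjSpace N k)), hJs]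
      rfl
    have hG : Coh.IsCoh ((Scheme.Modules.pushforward j).obj F) := CohFound.isCoh_push_closedImm j hF
    have hv : Van J ((Scheme.Modules.pushforward j).obj F) i := by
      refine van_of_gt hJa hJv hG n (fun y hy b hb => ?_) hi
      by_cases hyr : y ∈ Set.range j
      · obtain ⟨w, rfl⟩ := hyr
        rw [ES11.depth_push_stalk]
        have hw : w ∉ (I.support : Set X) := fun hwI => hy (by
          rw [← hsame, Scheme.IdealSheafData.support_comap] at hwI
          exact hwI)
        have := hd w hw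
        rw [← dim_closure_image j w, hb] at this
        exact_mod_cast this
      · rw [ES11.depth_push_stalk_notMem j _ hyr, top_add]
        exact ENat.natCast_lt_top _
    obtain ⟨a, ha⟩ := FormalH7.exists_pow_le_of_support_le I (J.comap j) hsame.le
    obtain ⟨b, hb⟩ := FormalH7.exists_pow_le_of_support_le (J.comap j) I hsame.ge
    exact van_of_cofinal ha hb (van_of_push j J F hv)
  · have huniv : (I.support : Set X) = Set.univ := by
      rw [hsupp, Set.not_nonempty_iff_eq_empty.1 hne, Set.compl_empty]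
    obtain ⟨a, ha⟩ := FormalH7.exists_pow_le_of_support_le I ⊥ (by rw [huniv]; exact Set.subset_univ _)
    refine van_of_killed I k (a + 1) ?_ i
    ext U t
    show (pmι I (a + 1) F).app U t = 0
    refine M1.section_ext _ _ fun x hx => ?_
    obtain ⟨W, hW, hxW, hWU⟩ := exists_isAffineOpen_mem_and_subset (U := U) hx
    have hm := (mem_idl F (I ^ (a + 1)) ⟨W, hW⟩ _).1 ⟨(pm I (a + 1) F).presheaf.map (homOfLE hWU).op t, rfl⟩
    have hbot : (I ^ (a + 1)).ideal ⟨W, hW⟩ = ⊥ := le_bot_iff.1 ((ha ⟨W, hW⟩).trans (le_of_eq (by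
      rw [Scheme.IdealSheafData.ideal_bot]; rfl)))
    have hm' := (Submodule.smul_mono_left hbot.le) hm
    rw [Submodule.bot_smul, Submodule.mem_bot] at hm'
    rw [← M1.germ_mres _ hWU hxW, ← M1.app_mres, map_zero]
    exact (congrArg (F.presheaf.germ W x hxW) hm').trans (map_zero _)

end Main

end Groth.Agent.TZ11
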