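import Groth.Agent.Lib.TateZero11.Sections
import Groth.Agent.Lib.EnriquesSeveri11.Lef
import Groth.Agent.Lib.LefFEt11.Present
import Groth.Agent.Lib.CIProj14.Van

/-!
# The Lefschetz condition along the zero scheme of a section of an ample invertible module
-/

set_option autoImplicit false
set_option linter.style.haveILetI false
set_option linter.unusedSectionVars false
set_option backward.isDefEq.respectTransparency false
set_option maxHeartbeats 1600000

universe u

open CategoryTheory CategoryTheory.Limits AlgebraicGeometry TopologicalSpace Opposite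

noncomputable section

namespace Groth.Agent.TZ11

open Groth.Agent IdealMulL

variable {X : Scheme.{u}}

/-- The kernels of `O ⊗ Q → O/I ^ (m + 1) ⊗ Q` kill like `I ^ m · Q`. -/
theorem kerVan_tensor (I : X.IdealSheafData) {Q : X.Modules} (hQ : PicF.IsInvertible Q) {i : ℕ}
    (h : Van I Q i) :
    KerVan (K := fun m => CohB1.tensorMod (ClSub.idealMod (I ^ (m + 1))) Q)
      (fun m => M2.tensorMap (ClSub.idealModι (I ^ (m + 1))) (𝟙 Q)) i := by
  have hex : ∀ K : X.IdealSheafData,
      ∃ (c : CohB1.tensorMod (ClSub.idealMod K) Q ⟶ (Dual3.idealMul K).obj Q)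
        (d : (Dual3.idealMul K).obj Q ⟶ CohB1.tensorMod (ClSub.idealMod K) Q)
        (e : CohB1.tensorMod (Coh.structureModule X) Q ⟶ Q),
        IsIso e ∧ e = (M2.tensorComm (Coh.structureModule X) Q ≪≫ M2.tensorRUnit Q).hom ∧
        c ≫ Dual3.idealMulι K Q = M2.tensorMap (ClSub.idealModι K) (𝟙 Q) ≫ e ∧
        d ≫ M2.tensorMap (ClSub.idealModι K) (𝟙 Q) ≫ e = Dual3.idealMulι K Q := by
    intro K
    have hS := CohFound.shortExact_tensor_invertible (M2.shortExact_idealMod (I := K)) hQ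
    haveI := hS.mono_f
    haveI := ClImmProj14.isIso_projHom K.subschemeι Q (Coh.structureModule K.subscheme)
    let e₂ := M2.tensorComm (Coh.structureModule X) Q ≪≫ M2.tensorRUnit Q
    let e₃ : CohB1.tensorMod ((Scheme.Modules.pushforward K.subschemeι).obj (Coh.structureModule K.subscheme)) Q ≅
        (Scheme.Modules.pushforward K.subschemeι).obj ((Scheme.Modules.pullback K.subschemeι).obj Q) :=
      M2.tensorComm _ Q ≪≫ asIso (AmpleFin18.projHom K.subschemeι Q (Coh.structureModule K.subscheme)) ≪≫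
        (Scheme.Modules.pushforward K.subschemeι).mapIso (M2.tensorRUnit _)
    have he : M2.tensorMap (ClSub.toSubscheme K) (𝟙 Q) ≫ e₃.hom =
        e₂.hom ≫ (Scheme.Modules.pullbackPushforwardAdjunction K.subschemeι).unit.app Q := by
      show M2.tensorMap (ClSub.toSubscheme K) (𝟙 Q) ≫ (M2.tensorComm _ Q).hom ≫ _ =
        ((M2.tensorComm _ Q).hom ≫ (M2.tensorRUnit Q).hom) ≫ _
      rw [Category.assoc, CIProj14.unit_eq, ← Category.assoc, M2.tensorComm_natural, Category.assoc]
      rfl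
    have hw : M2.tensorMap (ClSub.idealModι K) (𝟙 Q) ≫ M2.tensorMap (ClSub.toSubscheme K) (𝟙 Q) = 0 :=
      ((ShortComplex.mk (ClSub.idealModι K) (ClSub.toSubscheme K) (kernel.condition _)).map (M2.tensorR Q)).zero
    have h1 : (M2.tensorMap (ClSub.idealModι K) (𝟙 Q) ≫ e₂.hom) ≫
        (Scheme.Modules.pullbackPushforwardAdjunction K.subschemeι).unit.app Q = 0 := by
      rw [Category.assoc, ← he, ← Category.assoc, hw, zero_comp]
    have h2 : (Dual3.idealMulι K Q ≫ e₂.inv) ≫ M2.tensorMap (ClSub.toSubscheme K) (𝟙 Q) = 0 := by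
      rw [← cancel_mono e₃.hom, Category.assoc, Category.assoc, he, e₂.inv_hom_id_assoc, zero_comp]
      exact kernel.condition _
    refine ⟨kernel.lift _ _ h1, hS.exact.lift _ h2, e₂.hom, inferInstance, rfl, kernel.lift_ι _ _ _, ?_⟩
    have h3 := hS.exact.lift_f _ h2
    change hS.exact.lift _ h2 ≫ M2.tensorMap (ClSub.idealModι K) (𝟙 Q) = _ at h3
    rw [← Category.assoc, h3, Category.assoc, e₂.inv_hom_id, Category.comp_id]
  haveI : Coh.IsQCoh Q := M2.isQCoh_of_isFinLocFree (M2.isFinLocFree_of_isInvertible hQ)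
  intro m
  obtain ⟨M', hle, hM'⟩ := h (m + 1)
  refine ⟨M', by omega, fun u hu x => ?_⟩
  obtain ⟨c, -, e, -, he, hc, -⟩ := hex (I ^ (M' + 1))
  obtain ⟨-, d, e', hiso, he', -, hd⟩ := hex (I ^ (m + 1))
  haveI := hiso
  obtain rfl : e = e' := he.trans he'.symm
  obtain ⟨j, hj⟩ := exists_inclusion I (G := Q) (Nat.le_add_right M' 1)
  obtain ⟨g, hg⟩ := exists_inclusion I (G := Q) hle
  haveI : Mono (M2.tensorMap (ClSub.idealModι (I ^ (m + 1))) (𝟙 Q)) :=
    (CohFound.shortExact_tensor_invertible (M2.shortExact_idealMod (I := I ^ (m + 1))) hQ).mono_f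
  have hfac : u = c ≫ j ≫ g ≫ d := by
    rw [← cancel_mono (M2.tensorMap (ClSub.idealModι (I ^ (m + 1))) (𝟙 Q)), hu, ← cancel_mono e]
    simp only [Category.assoc, hd]
    change _ = c ≫ j ≫ g ≫ Dual3.idealMulι (I ^ (m + 1)) _
    rw [hg, hj, hc]
  rw [hfac]
  simp only [CurveCoh17.hmap₀, Functor.map_comp]
  erw [CategoryTheory.Sheaf.H.map_comp_apply, CategoryTheory.Sheaf.H.map_comp_apply,
    CategoryTheory.Sheaf.H.map_comp_apply]
  erw [hM' g hg]
  exact map_zero _

/-- Formal bijectivity out of an invertible module. -/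
theorem homToFormal_of_van (A : Type u) [CommRing A] [X.Over (Spec (CommRingCat.of A))]
    (I : X.IdealSheafData) {P Q : X.Modules} (hQ : PicF.IsInvertible Q)
    (e : CohB1.tensorMod P Q ≅ Coh.structureModule X) (h0 : Van I Q 0) (h1 : Van I Q 1) :
    Lef.HomToFormalBijective I P := by
  have e' : CohB1.tensorMod Q P ≅ Coh.structureModule X := M2.tensorComm Q P ≪≫ e
  have hid : ∀ M : X.Modules, Function.Bijective (M1.mres M (le_top : (⊤ : X.Opens) ≤ ⊤)) := fun M =>
    ⟨fun a b h => by rwa [M1.mres_id, M1.mres_id] at h, fun t => ⟨t, M1.mres_id M _ t⟩⟩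
  obtain ⟨hinj, hsurj⟩ := sections_bijective A
    (fun m => CohB1.tensorMod (ClSub.quotMod (I ^ (m + 1))) Q)
    (fun m => M2.tensorMap (ClSub.toSubscheme (I ^ (m + 1))) (𝟙 Q))
    (fun m => M2.tensorMap (Lef.quotMap (Lef.pow_succ_le I m)) (𝟙 Q))
    (fun m => by rw [← M2.tensorMap_comp, Category.id_comp, ES11.toSubscheme_quotMap])
    (fun m => M2.tensorMap (ClSub.idealModι (I ^ (m + 1))) (𝟙 Q))
    (fun m => ((ShortComplex.mk (ClSub.idealModι (I ^ (m + 1))) (ClSub.toSubscheme (I ^ (m + 1)))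
      (kernel.condition _)).map (M2.tensorR Q)).zero)
    (fun m => CohFound.shortExact_tensor_invertible (M2.shortExact_idealMod (I := I ^ (m + 1))) hQ)
    (kerVan_tensor I hQ h0) (kerVan_tensor I hQ h1) ⊤ (hid _) (fun m => hid _)
  have htr : ∀ {M N : X.Modules} (φ : P ⟶ M) (q : M ⟶ N),
      e.inv ≫ M2.tensorMap (φ ≫ q) (𝟙 Q) = (e.inv ≫ M2.tensorMap φ (𝟙 Q)) ≫ M2.tensorMap q (𝟙 Q) :=
    fun φ q => by rw [Category.assoc, ← M2.tensorMap_comp, Category.id_comp]
  refine ⟨fun φ ψ h => ES11.tensorR_map_injective e' ?_, fun y hy => ?_⟩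
  · rw [← cancel_epi e.inv, ← Amp.secHom_gval (e.inv ≫ M2.tensorMap φ (𝟙 Q)),
      ← Amp.secHom_gval (e.inv ≫ M2.tensorMap ψ (𝟙 Q))]
    refine congrArg _ (sub_eq_zero.1 (hinj _ fun m => ?_))
    rw [map_sub, ← Amp.gval_comp, ← Amp.gval_comp, ← htr, ← htr, h m, sub_self]
  · obtain ⟨σ, hσ⟩ := hsurj (fun m => Amp.gval (e.inv ≫ M2.tensorMap (y m) (𝟙 Q))) fun m => by
      rw [← Amp.gval_comp, ← htr, hy m]
    obtain ⟨φ, hφ⟩ := ES11.tensorR_map_surjective e' (e.hom ≫ M1.secHom σ)
    refine ⟨φ, fun m => ES11.tensorR_map_injective e' ?_⟩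
    rw [← cancel_epi e.inv, htr, hφ, e.inv_hom_id_assoc, ← Amp.secHom_gval (M1.secHom σ ≫ _),
      ← Amp.secHom_gval (e.inv ≫ M2.tensorMap (y m) (𝟙 Q))]
    refine congrArg _ ?_
    rw [Amp.gval_comp, Amp.gval_secHom]
    exact hσ m

variable (k : Type u) [Field k]

/-- Formal bijectivity out of every coherent module. -/
theorem homToFormal_zeroScheme (f : X ⟶ Spec (CommRingCat.of k)) [IsProper f] {L : X.Modules}
    (hL : CohB1.IsAmple L) (s : Coh.structureModule X ⟶ L)
    (hd : ∀ x : X, x ∉ ((PicF2.zeroScheme L s).support : Set X) →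
      (1 : WithBot ℕ∞) < (LocCoh.depth (X.presheaf.stalk x) (X.presheaf.stalk x) : WithBot ℕ∞) +
        topologicalKrullDim ↥(closure ({x} : Set X)))
    {F : X.Modules} (hF : Coh.IsCoh F) : Lef.HomToFormalBijective (PicF2.zeroScheme L s) F := by
  letI : X.Over (Spec (CommRingCat.of k)) := ⟨f⟩
  haveI : IsProper (X ↘ Spec (CommRingCat.of k)) := ‹IsProper f›
  haveI : AlgebraicGeometry.IsNoetherian X := CohFound.isNoetherian_of_isProper f
  have hLi : PicF.IsInvertible L := (Amp.isAmple_iff.1 hL).1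
  obtain ⟨L', hL', ⟨e⟩⟩ := M2.exists_inverse hLi
  have htw : ∀ a l : ℕ, Lef.HomToFormalBijective (PicF2.zeroScheme L s)
      (CohB1.tensorMod (FlatMod.freeMod X l) (CohB1.tensorPow L' a)) := by
    intro a l
    have hLa := M2.isInvertible_tensorPow hLi a
    have hv : ∀ j, j ≤ 1 → Van (PicF2.zeroScheme L s) (CohB1.tensorPow L a) j := fun j hj =>
      van_zeroScheme f hL s (Snapper.isCoh_of_isInvertible hLa) 1 (fun x hx => by
        obtain ⟨eL⟩ := CurveCoh17.nonempty_stalk_equiv ((M2.isInvertible_iff_isFinLocFreeOfRank_one _).1 hLa) x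
        have : LocCoh.depth (X.presheaf.stalk x) ((CohB1.tensorPow L a).presheaf.stalk x) =
            LocCoh.depth (X.presheaf.stalk x) (X.presheaf.stalk x) := DepthLib.idealDepth_congr (eL.trans (LinearEquiv.funUnique (Fin 1) (X.presheaf.stalk x) (X.presheaf.stalk x)))
        rw [this]
        simpa using hd x hx) hj
    refine LefFEt11.homToFormal_of_iso (M2.freeModTensorIso X l _).symm (LefFEt11.homToFormal_coprod ?_)
    exact homToFormal_of_van k (PicF2.zeroScheme L s) hLa
      (M2.tensorComm _ _ ≪≫ ES11.powInvIso e a) (hv 0 zero_le_one) (hv 1 le_rfl)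
  obtain ⟨a, l, p, hp⟩ := ES11.exists_epi_negative (k := k) hL e hF
  haveI := hp
  have hPc : Coh.IsCoh (CohB1.tensorMod (FlatMod.freeMod X l) (CohB1.tensorPow L' a)) :=
    CohFound.isCoh_tensor (CohFound.isCoh_of_isFinLocFree (KFlat.Sch.isFinLocFree_freeMod _ l))
      (Snapper.isCoh_of_isInvertible (M2.isInvertible_tensorPow hL' a))
  obtain ⟨a', l', p', hp'⟩ := ES11.exists_epi_negative (k := k) hL e (M1.isCoh_kernel hPc hF.1 p)
  haveI := hp'
  have w : (p' ≫ kernel.ι p) ≫ p = 0 := by rw [Category.assoc, kernel.condition, comp_zero]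
  have hex : (ShortComplex.mk (p' ≫ kernel.ι p) p w).Exact := by
    let φ : ShortComplex.mk (p' ≫ kernel.ι p) p w ⟶ ShortComplex.mk (kernel.ι p) p (kernel.condition p) :=
      { τ₁ := p', τ₂ := 𝟙 _, τ₃ := 𝟙 _ }
    haveI : Epi φ.τ₁ := hp'
    haveI : IsIso φ.τ₂ := inferInstanceAs (IsIso (𝟙 _))
    haveI : Mono φ.τ₃ := inferInstanceAs (Mono (𝟙 _))
    exact (ShortComplex.exact_iff_of_epi_of_isIso_of_mono φ).2 (ShortComplex.exact_kernel p)
  exact LefFEt11.homToFormal_of_presentation _ _ w hex (htw a' l') (htw a l)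

/-- Formal bijectivity descends to an open when the targets extend. -/
theorem homToFormal_restrict (U : X.Opens) {I : X.IdealSheafData}
    (hO : RH26.ExtU U (Coh.structureModule X)) (hQ : ∀ n : ℕ, RH26.ExtU U (ClSub.quotMod (I ^ (n + 1))))
    {F : X.Modules} {D : (U : Scheme.{u}).Modules} (e : (Scheme.Modules.restrictFunctor U.ι).obj F ≅ D)
    (h : Lef.HomToFormalBijective I F) : Lef.HomToFormalBijective (I.comap U.ι) D := by
  have hex : ∀ n : ℕ, ∃ ε : (Scheme.Modules.restrictFunctor U.ι).obj (ClSub.quotMod (I ^ (n + 1))) ≅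
      ClSub.quotMod ((I.comap U.ι) ^ (n + 1)),
      (ES11.resUnit U).inv ≫ (Scheme.Modules.restrictFunctor U.ι).map (ClSub.toSubscheme (I ^ (n + 1))) ≫ ε.hom =
        ClSub.toSubscheme ((I.comap U.ι) ^ (n + 1)) := fun n => by
    rw [← BlowUpExist.comap_pow]
    exact ES11.exists_quot_iso U _
  choose ε hε using hex
  have hτ : ∀ n : ℕ, (Scheme.Modules.restrictFunctor U.ι).map (Lef.quotMap (Lef.pow_succ_le I n)) ≫ (ε n).hom =
      (ε (n + 1)).hom ≫ Lef.quotMap (Lef.pow_succ_le (I.comap U.ι) n) := by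
    intro n
    haveI := M2.epi_toSubscheme ((I.comap U.ι) ^ (n + 1 + 1))
    rw [← Iso.inv_comp_eq,
      ← cancel_epi (ClSub.toSubscheme ((I.comap U.ι) ^ (n + 1 + 1))), ES11.toSubscheme_quotMap, ← hε (n + 1),
      ← hε n]
    simp only [Category.assoc, Iso.hom_inv_id_assoc]
    rw [← Functor.map_comp_assoc, ES11.toSubscheme_quotMap]
  have hRO := ES11.bijective_restrict_of_extU U hO F
  have hRQ := fun n => ES11.bijective_restrict_of_extU U (hQ n) F
  have key : ∀ (φ : F ⟶ Coh.structureModule X) (n : ℕ),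
      (e.inv ≫ (Scheme.Modules.restrictFunctor U.ι).map φ ≫ (ES11.resUnit U).hom) ≫
          ClSub.toSubscheme ((I.comap U.ι) ^ (n + 1)) =
        e.inv ≫ (Scheme.Modules.restrictFunctor U.ι).map (φ ≫ ClSub.toSubscheme (I ^ (n + 1))) ≫ (ε n).hom :=
    fun φ n => by
      rw [← hε n, Functor.map_comp]
      simp only [Category.assoc, Iso.hom_inv_id_assoc]
  refine ⟨fun ψ ψ' hψ => ?_, fun y hy => ?_⟩
  · obtain ⟨φ, hφ⟩ := hRO.2 (e.hom ≫ ψ ≫ (ES11.resUnit U).inv)
    obtain ⟨φ', hφ'⟩ := hRO.2 (e.hom ≫ ψ' ≫ (ES11.resUnit U).inv)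
    simp only at hφ hφ'
    have hψ1 : ψ = e.inv ≫ (Scheme.Modules.restrictFunctor U.ι).map φ ≫ (ES11.resUnit U).hom := by simp [hφ]
    have hψ2 : ψ' = e.inv ≫ (Scheme.Modules.restrictFunctor U.ι).map φ' ≫ (ES11.resUnit U).hom := by simp [hφ']
    rw [hψ1, hψ2, h.1 φ φ' fun n => (hRQ n).1 ?_]
    have := hψ n
    rw [hψ1, hψ2, key, key, cancel_epi, cancel_mono] at this
    exact this
  · choose p hp using fun n => (hRQ n).2 (e.hom ≫ y n ≫ (ε n).inv)
    simp only at hp
    have hp' : Lef.IsFormalHom I F p := fun n => (hRQ n).1 (by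
      simp only [Functor.map_comp, hp]
      rw [← cancel_mono (ε n).hom]
      simp only [Category.assoc, Iso.inv_hom_id, Category.comp_id, hτ n]
      rw [Iso.inv_hom_id_assoc, hy n])
    obtain ⟨φ, hφ⟩ := h.2 p hp'
    refine ⟨e.inv ≫ (Scheme.Modules.restrictFunctor U.ι).map φ ≫ (ES11.resUnit U).hom, fun n => ?_⟩
    rw [key, hφ, hp]
    simp

/-- A closed point with `1 < depth + dim cl` has depth at least two. -/
theorem two_le_depth_of_lt {z : X} (hz : IsClosed ({z} : Set X)) {d : ℕ∞}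
    (h : (1 : WithBot ℕ∞) < (d : WithBot ℕ∞) + topologicalKrullDim ↥(closure ({z} : Set X))) : 2 ≤ d := by
  haveI : Subsingleton ↥(closure ({z} : Set X)) := by
    rw [hz.closure_eq]
    infer_instance
  have h0 : topologicalKrullDim ↥(closure ({z} : Set X)) = 0 := by
    refine le_antisymm (topologicalKrullDim_zero_of_discreteTopology _) ?_
    haveI : Nonempty (TopologicalSpace.IrreducibleCloseds ↥(closure ({z} : Set X))) :=
      ⟨⟨closure {⟨z, subset_closure rfl⟩}, isIrreducible_singleton.closure, isClosed_closure⟩⟩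
    exact Order.krullDim_nonneg
  rw [h0, add_zero] at h
  have h1 : (1 : ℕ∞) < d := by exact_mod_cast h
  exact Order.add_one_le_of_lt h1

/-- The Lefschetz condition along `Z(s)`. -/
theorem lefCond_zeroScheme (f : X ⟶ Spec (CommRingCat.of k)) [IsProper f] {L : X.Modules}
    (hL : CohB1.IsAmple L) (s : Coh.structureModule X ⟶ L)
    (hd : ∀ x : X, x ∉ ((PicF2.zeroScheme L s).support : Set X) →
      (1 : WithBot ℕ∞) < (LocCoh.depth (X.presheaf.stalk x) (X.presheaf.stalk x) : WithBot ℕ∞) +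
        topologicalKrullDim ↥(closure ({x} : Set X))) :
    Lef.LefCond X (PicF2.zeroScheme L s) := by
  letI : X.Over (Spec (CommRingCat.of k)) := ⟨f⟩
  haveI : IsProper (X ↘ Spec (CommRingCat.of k)) := ‹IsProper f›
  haveI : AlgebraicGeometry.IsNoetherian X := CohFound.isNoetherian_of_isProper f
  intro U hU D hD
  have hsupp := support_zeroScheme (Amp.isAmple_iff.1 hL).1 s
  have hG : IsAffineOpen (CohB1.genLocus L s) := RA.isAffineOpen_genLocus_of_universallyClosed f hL s
  have hclosed : ∀ z : X, z ∉ U → IsClosed ({z} : Set X) := fun z hz =>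
    ES11.isClosed_singleton_of_subset_affine (k := k) hG U.isOpen.isClosed_compl (by
      intro w hw
      have : w ∉ ((PicF2.zeroScheme L s).support : Set X) := fun h => hw (hU h)
      rw [hsupp] at this
      exact not_not.1 this) hz
  have hO : Coh.IsCoh (Coh.structureModule X) :=
    Snapper.isCoh_of_isInvertible (PicLoc.isInvertible_structureModule X)
  haveI := hO.1
  have hextO : RH26.ExtU U (Coh.structureModule X) := DepthAlong11.extU_of_hasSlicePair _
    (DepthAlong11.hasSlicePair_of_depth _ hO U fun z hz => by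
      rw [ES11.depth_structureModule]
      exact two_le_depth_of_lt (hclosed z hz) (hd z fun h => hz (hU h)))
  have hextQ : ∀ n : ℕ, RH26.ExtU U (ClSub.quotMod ((PicF2.zeroScheme L s) ^ (n + 1))) := fun n => by
    have hQc : Coh.IsCoh (ClSub.quotMod ((PicF2.zeroScheme L s) ^ (n + 1))) := CohFound.isCoh_push_closedImm _
      (CohFound.isCoh_of_isFinLocFree (M2.isFinLocFree_of_isInvertible (PicLoc.isInvertible_structureModule _)))
    haveI := hQc.1
    refine DepthAlong11.extU_of_hasSlicePair _ (DepthAlong11.hasSlicePair_of_depth _ hQc U fun z hz => ?_)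
    rw [ES11.depth_push_stalk_notMem]
    · exact le_top
    · rw [Scheme.IdealSheafData.range_subschemeι, Scheme.IdealSheafData.support_pow_succ]
      exact fun h => hz (hU h)
  haveI : AlgebraicGeometry.IsNoetherian (U : Scheme.{u}) := LocImm12.isNoetherian_of_isOpenImmersion U.ι
  obtain ⟨F, α, hF, hα⟩ := KCoh4.exists_ext U.ι (CohFound.isCoh_of_isFinLocFree hD)
  haveI : IsIso ((Scheme.Modules.restrictFunctor U.ι).map α) := hα
  exact homToFormal_restrict U hextO hextQ
    (asIso ((Scheme.Modules.restrictFunctor U.ι).map α) ≪≫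
      asIso ((Scheme.Modules.restrictAdjunction U.ι).counit.app D))
    (homToFormal_zeroScheme k f hL s hd hF)

end Groth.Agent.TZ11
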