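import Groth.Agent.Lib.TateZero11.Transfer
import Groth.Agent.Lib.EnriquesSeveri11.Lef
import Groth.Agent.Lib.LefFEt11.Completion
import Groth.Agent.Lib.FormalModH7.ClosedSec
import Groth.Prelude.Def_FSch2

/-!
# Cohomology and the limit over the infinitesimal neighbourhoods
-/

set_option autoImplicit false
set_option linter.style.haveILetI false
set_option linter.unusedSectionVars false
set_option backward.isDefEq.respectTransparency false
set_option maxHeartbeats 1600000

universe u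

open CategoryTheory CategoryTheory.Limits AlgebraicGeometry TopologicalSpace Opposite

noncomputable section

namespace Groth.Agent.TZ11

open Groth.Agent IdealMulL

variable {X : Scheme.{u}}

section Formal

variable (A : Type u) [CommRing A] [X.Over (Spec (CommRingCat.of A))]
variable {F : X.Modules} (Q : ℕ → X.Modules) (π : ∀ m, F ⟶ Q m) (τ : ∀ m, Q (m + 1) ⟶ Q m)
variable (hτ : ∀ m, π (m + 1) ≫ τ m = π m)
variable {K : ℕ → X.Modules} (ι : ∀ m, K m ⟶ F) (w : ∀ m, ι m ≫ π m = 0)
variable (hS : ∀ m, (ShortComplex.mk (ι m) (π m) (w m)).ShortExact)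

/-- The transition from level `m + d` to level `m`. -/
def down : ∀ (m d : ℕ), Q (m + d) ⟶ Q m
  | m, 0 => 𝟙 _
  | m, d + 1 => τ (m + d) ≫ down m d

include hτ in
theorem comp_down (m : ℕ) : ∀ d : ℕ, π (m + d) ≫ down Q τ m d = π m
  | 0 => Category.comp_id _
  | d + 1 => by
    show π (m + d + 1) ≫ τ (m + d) ≫ down Q τ m d = π m
    rw [reassoc_of% (hτ (m + d)), comp_down m d]

/-- Every kernel of a level has a deeper one whose map into it kills degree `i`. -/
def KerVan (i : ℕ) : Prop :=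
  ∀ m, ∃ m', m ≤ m' ∧ ∀ u : K m' ⟶ K m, u ≫ ι m = ι m' → ∀ x, CurveCoh17.hmap₀ u i x = 0

include hτ hS A in
theorem exists_injective {i : ℕ} (hK : KerVan ι i) :
    ∃ M, ∀ x : Coh.HH X F i, CurveCoh17.hmap A (π M) i x = 0 → x = 0 := by
  obtain ⟨M, hle, hM⟩ := hK 0
  refine ⟨M, fun x hx => ?_⟩
  obtain ⟨d, rfl⟩ := Nat.exists_eq_add_of_le hle
  haveI := (hS 0).mono_f
  have h0 : ι (0 + d) ≫ π 0 = 0 := by rw [← comp_down Q π τ hτ 0 d, ← Category.assoc, w, zero_comp]
  obtain ⟨y, rfl⟩ := (CurveCoh17.exact_hmap_hmap A (hS (0 + d)) i x).1 hx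
  have hu := (hS 0).exact.lift_f (ι (0 + d)) h0
  show CurveCoh17.hmap A (ι (0 + d)) i y = 0
  rw [← hu, CurveCoh17.hmap_comp]
  erw [hM _ hu]
  exact map_zero _

include hτ hS A in
/-- The map to the limit is bijective. -/
theorem formal_bijective {i : ℕ} (h0 : KerVan ι i) (h1 : KerVan ι (i + 1)) :
    (∀ x : Coh.HH X F i, (∀ m, CurveCoh17.hmap A (π m) i x = 0) → x = 0) ∧
      ∀ y : ∀ m, Coh.HH X (Q m) i, (∀ m, CurveCoh17.hmap A (τ m) i (y (m + 1)) = y m) →
        ∃ x, ∀ m, CurveCoh17.hmap A (π m) i x = y m := by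
  obtain ⟨M, hM⟩ := exists_injective A Q π τ hτ ι w hS h0
  refine ⟨fun x hx => hM x (hx M), fun y hy => ?_⟩
  have hy' : ∀ m d : ℕ, CurveCoh17.hmap A (down Q τ m d) i (y (m + d)) = y m := by
    intro m d
    induction d with
    | zero => exact CurveCoh17.hmap_id A _ i _
    | succ d ih =>
      show CurveCoh17.hmap A (τ (m + d) ≫ down Q τ m d) i (y (m + d + 1)) = y m
      rw [CurveCoh17.hmap_comp, hy, ih]
  have hlift : ∀ m, ∃ x, CurveCoh17.hmap A (π m) i x = y m := fun m => by
    obtain ⟨m', hle, hm'⟩ := h1 m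
    obtain ⟨d, rfl⟩ := Nat.exists_eq_add_of_le hle
    haveI := (hS m).mono_f
    have h0' : ι (m + d) ≫ π m = 0 := by rw [← comp_down Q π τ hτ m d, ← Category.assoc, w, zero_comp]
    have hu := (hS m).exact.lift_f (ι (m + d)) h0'
    let φ : ShortComplex.mk (ι (m + d)) (π (m + d)) (w _) ⟶ ShortComplex.mk (ι m) (π m) (w m) :=
      { τ₁ := (hS m).exact.lift (ι (m + d)) h0', τ₂ := 𝟙 F, τ₃ := down Q τ m d,
        comm₁₂ := hu.trans (Category.comp_id _).symm,
        comm₂₃ := (Category.id_comp _).trans (comp_down Q π τ hτ m d).symm }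
    have h2 := DVRTriv4.hdelta_natural A (hS (m + d)) (hS m) φ i (y (m + d))
    rw [show CurveCoh17.hmap A φ.τ₁ (i + 1) (CurveCoh17.hdelta A (hS (m + d)) i (y (m + d))) = 0 from
      hm' φ.τ₁ hu _, show CurveCoh17.hmap A φ.τ₃ i (y (m + d)) = y m from hy' m d] at h2
    exact (CurveCoh17.exact_hmap_hdelta A (hS m) i (y m)).1 h2.symm
  choose x hx using hlift
  refine ⟨x M, fun m => ?_⟩
  have key : ∀ n, M ≤ n → x n = x M := fun n hn => by
    obtain ⟨d, rfl⟩ := Nat.exists_eq_add_of_le hn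
    refine sub_eq_zero.1 (hM _ ?_)
    rw [map_sub, hx M]
    have : CurveCoh17.hmap A (π M) i (x (M + d)) = y M := by
      rw [← comp_down Q π τ hτ M d, CurveCoh17.hmap_comp, hx, hy']
    rw [this, sub_self]
  rw [← key (m + M) (Nat.le_add_left M m), ← comp_down Q π τ hτ m M, CurveCoh17.hmap_comp, hx, hy']

end Formal

/-- The ideal modules of the powers kill like `I ^ m · O`. -/
theorem kerVan_idealMod (I : X.IdealSheafData) {i : ℕ} (h : Van I (Coh.structureModule X) i) :
    KerVan (K := fun m => ClSub.idealMod (I ^ (m + 1))) (fun m => ClSub.idealModι (I ^ (m + 1))) i := by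
  haveI hO : Coh.IsQCoh (Coh.structureModule X) := M1.isQCoh_structureModule X
  have hto : ∀ n : ℕ, ∃ c : ClSub.idealMod (I ^ n) ⟶ pm I n (Coh.structureModule X),
      c ≫ pmι I n _ = ClSub.idealModι (I ^ n) := fun n => by
    haveI : Coh.IsQCoh (ClSub.idealMod (I ^ n)) :=
      M1.isQCoh_kernel hO (M1.isQCoh_push (I ^ n).subschemeι (M1.isQCoh_structureModule _)) _
    refine exists_lift_affine _ (idl _ (I ^ n)) (fun W : X.affineOpens => W) exists_affine_cover fun W t => ?_
    rw [mem_idl]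
    have h0 : (ClSub.toSubscheme (I ^ n)).app W.1 ((ClSub.idealModι (I ^ n)).app W.1 t) = 0 := by
      rw [← M1.comp_app_apply, ClSub.idealModι, kernel.condition]
      rfl
    have hmem : (show Γ(X, W.1) from (ClSub.idealModι (I ^ n)).app W.1 t) ∈ (I ^ n).ideal W := by
      rw [← (I ^ n).ker_subschemeι_app, RingHom.mem_ker]
      exact h0
    have h1 := Submodule.smul_mem_smul (N := (⊤ : Submodule Γ(X, W.1) Γ(Coh.structureModule X, W.1))) hmem
      (Submodule.mem_top (x := M1.one W.1))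
    rwa [show (show Γ(X, W.1) from (ClSub.idealModι (I ^ n)).app W.1 t) • M1.one W.1 =
      (ClSub.idealModι (I ^ n)).app W.1 t from mul_one (show Γ(X, W.1) from _)] at h1
  have hfrom : ∀ n : ℕ, ∃ c : pm I n (Coh.structureModule X) ⟶ ClSub.idealMod (I ^ n),
      c ≫ ClSub.idealModι (I ^ n) = pmι I n _ := fun n => by
    haveI : Coh.IsQCoh (pm I n (Coh.structureModule X)) := isQCoh_idl _ _ hO
    refine exists_lift_affine _ (M1.Sub.ker (ClSub.toSubscheme (I ^ n))) (fun W : X.affineOpens => W)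
      exists_affine_cover fun W t => ?_
    rw [M1.Sub.mem_ker]
    refine Submodule.smul_induction_on ((mem_idl _ (I ^ n) W _).1 ⟨t, rfl⟩) (fun r hr v _ => ?_)
      (fun p q hp hq => by rw [map_add, hp, hq, add_zero])
    rw [← (I ^ n).ker_subschemeι_app, RingHom.mem_ker] at hr
    show (I ^ n).subschemeι.app W.1 (r * (show Γ(X, W.1) from v)) = 0
    rw [map_mul, hr, zero_mul]
  intro m
  obtain ⟨M', hle, hM'⟩ := h (m + 1)
  refine ⟨M', by omega, fun u hu x => ?_⟩
  obtain ⟨c, hc⟩ := hto (M' + 1)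
  obtain ⟨d, hd⟩ := hfrom (m + 1)
  obtain ⟨e, he⟩ := exists_inclusion I (G := Coh.structureModule X) (Nat.le_add_right M' 1)
  obtain ⟨g, hg⟩ := exists_inclusion I (G := Coh.structureModule X) hle
  haveI : Mono (ClSub.idealModι (I ^ (m + 1))) := inferInstanceAs (Mono (kernel.ι _))
  have hfac : u = c ≫ e ≫ g ≫ d := by
    rw [← cancel_mono (ClSub.idealModι (I ^ (m + 1))), hu]
    simp only [Category.assoc, hd]
    change _ = c ≫ e ≫ g ≫ Dual3.idealMulι (I ^ (m + 1)) _
    rw [hg, he, hc]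
  rw [hfac]
  simp only [CurveCoh17.hmap₀, Functor.map_comp]
  erw [CategoryTheory.Sheaf.H.map_comp_apply, CategoryTheory.Sheaf.H.map_comp_apply,
    CategoryTheory.Sheaf.H.map_comp_apply]
  erw [hM' g hg]
  exact map_zero _

/-- The kernels of the completion maps kill like the powers. -/
theorem kerVan_pm (I : X.IdealSheafData) {F : X.Modules} [Coh.IsQCoh F] {i : ℕ} (h : Van I F i) :
    KerVan (K := fun m => pm I (m + 1) F) (fun m => pmι I (m + 1) F) i := by
  intro m
  obtain ⟨M', hle, hM'⟩ := h (m + 1)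
  refine ⟨M', by omega, fun u hu x => ?_⟩
  obtain ⟨e, he⟩ := exists_inclusion I (G := F) (Nat.le_add_right M' 1)
  obtain ⟨g, hg⟩ := exists_inclusion I (G := F) hle
  have hfac : u = e ≫ g := by
    rw [← cancel_mono (pmι I (m + 1) F), hu, Category.assoc]
    change _ = e ≫ g ≫ Dual3.idealMulι (I ^ (m + 1)) F
    rw [hg, he]
  rw [hfac]
  simp only [CurveCoh17.hmap₀, Functor.map_comp]
  erw [CategoryTheory.Sheaf.H.map_comp_apply]
  erw [hM' g hg]

/-- The unit of a closed immersion is onto. -/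
theorem epi_unit (K : X.IdealSheafData) (F : X.Modules) [Coh.IsQCoh F] :
    Epi ((Scheme.Modules.pullbackPushforwardAdjunction K.subschemeι).unit.app F) := by
  refine (M1.epi_iff_locally_surjective _).2 fun U t x hx => ?_
  obtain ⟨W, hW, hxW, hWU⟩ := exists_isAffineOpen_mem_and_subset (U := U) hx
  refine ⟨W, hWU, hxW, ?_⟩
  have hsurj : Function.Surjective (K.subschemeι.appLE W (K.subschemeι ⁻¹ᵁ W) le_rfl) := by
    rw [← Scheme.Hom.app_eq_appLE]
    exact K.subschemeι.app_surjective W hW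
  obtain ⟨s, hs⟩ := FormalModH7.res'_surjective K.subschemeι F le_rfl hW (hW.preimage _) hsurj
    (((Scheme.Modules.pushforward K.subschemeι).obj ((Scheme.Modules.pullback K.subschemeι).obj F)).presheaf.map
      (homOfLE hWU).op t)
  refine ⟨s, ?_⟩
  simp only [ModLimH13.res', M1.mres_id] at hs
  exact hs

end Groth.Agent.TZ11
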