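import Groth.Agent.Lib.IdealMul.PowKill
import Groth.Agent.Lib.IdealMul.Extend
import Groth.Agent.Lib.DVRTriv4.Seq
import Groth.Agent.Lib.CurveCoh17.LES
import Groth.Agent.Lib.CohFound.HHBridge

/-!
# Transition maps `I^m' G → I^m G` that kill cohomology
-/

set_option autoImplicit false
set_option linter.style.haveILetI false
set_option linter.unusedSectionVars false
set_option backward.isDefEq.respectTransparency false

universe u

open CategoryTheory CategoryTheory.Limits AlgebraicGeometry TopologicalSpace Opposite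

noncomputable section

namespace Groth.Agent.TZ11

open Groth.Agent IdealMulL

variable {X : Scheme.{u}} (I : X.IdealSheafData)

/-- `I ^ m · F`. -/
abbrev pm (m : ℕ) (F : X.Modules) : X.Modules := (Dual3.idealMul (I ^ m)).obj F

/-- The inclusion of `I ^ m · F`. -/
abbrev pmι (m : ℕ) (F : X.Modules) : pm I m F ⟶ F := Dual3.idealMulι (I ^ m) F

/-- Every `I ^ m · G` has a higher one whose inclusion into it kills degree `i` cohomology. -/
def Van (G : X.Modules) (i : ℕ) : Prop :=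
  ∀ m : ℕ, ∃ m', m ≤ m' ∧ ∀ ι : pm I m' G ⟶ pm I m G, ι ≫ pmι I m G = pmι I m' G →
    ∀ x, CurveCoh17.hmap₀ ι i x = 0

theorem exists_affine_cover : ∀ x : X, ∃ W : X.affineOpens, x ∈ W.1 := fun x =>
  let ⟨W, hW, hxW, _⟩ := exists_isAffineOpen_mem_and_subset (show x ∈ (⊤ : X.Opens) from trivial)
  ⟨⟨W, hW⟩, hxW⟩

/-- A map out of `I ^ a · F` induces maps `I ^ (m + a) · F → I ^ m · G`. -/
theorem exists_map {F G : X.Modules} [Coh.IsQCoh F] [Coh.IsQCoh G] (a m : ℕ) (ψ : pm I a F ⟶ G) :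
    ∃ (c : pm I (m + a) F ⟶ pm I m G) (j : pm I (m + a) F ⟶ pm I a F),
      j ≫ pmι I a F = pmι I (m + a) F ∧ c ≫ pmι I m G = j ≫ ψ := by
  obtain ⟨j, hj⟩ := exists_inclusion I (G := F) (Nat.le_add_left a m)
  haveI : Coh.IsQCoh (pm I (m + a) F) := isQCoh_idl F _ ‹_›
  suffices h : ∃ c, c ≫ (idl G (I ^ m)).i = j ≫ ψ by
    obtain ⟨c, hc⟩ := h
    exact ⟨c, j, hj, hc⟩
  refine exists_lift_affine (j ≫ ψ) (idl G (I ^ m)) (fun W : X.affineOpens => W) exists_affine_cover fun W t => ?_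
  rw [mem_idl, ideal_pow_apply]
  have hm := (mem_idl F (I ^ (m + a)) W _).1 ⟨t, rfl⟩
  rw [ideal_pow_apply, pow_add, Submodule.mul_smul] at hm
  have hn := secSub_idl F (I ^ a) W
  rw [ideal_pow_apply] at hn
  rw [← hn, secSub, ← Submodule.map_top, ← Submodule.map_smul''] at hm
  obtain ⟨b, hb, hbe⟩ := Submodule.mem_map.1 hm
  have hjt : j.app W.1 t = b := M1.app_injective (pmι I a F) W.1 (by
    rw [← M1.comp_app_apply, hj]
    exact hbe.symm)
  rw [M1.comp_app_apply, hjt]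
  refine Submodule.smul_induction_on hb (fun r hr t _ => ?_) (fun p q hp hq => by
    rw [map_add]; exact Submodule.add_mem _ hp hq)
  rw [ψ.app_smul]
  exact Submodule.smul_mem_smul hr Submodule.mem_top

theorem epi_map {E G : X.Modules} [Coh.IsQCoh E] [Coh.IsQCoh G] (g : E ⟶ G) [Epi g] (m : ℕ) :
    Epi ((Dual3.idealMul (I ^ m)).map g) := by
  refine (M1.epi_iff_locally_surjective _).2 fun U t x hx => ?_
  obtain ⟨W, hW, hxW, hWU⟩ := exists_isAffineOpen_mem_and_subset (U := U) hx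
  refine ⟨W, hWU, hxW, ?_⟩
  let t' : Γ(pm I m G, W) := (pm I m G).presheaf.map (homOfLE hWU).op t
  have ht := (mem_idl G (I ^ m) ⟨W, hW⟩ _).1 ⟨t', rfl⟩
  have htop : Submodule.map (SchDom.appLin g W) ⊤ = ⊤ := by
    rw [Submodule.map_top, LinearMap.range_eq_top]
    exact M1.app_surjective_affine_of_isQCoh ‹Coh.IsQCoh E› ‹Coh.IsQCoh G› g hW
  change _ ∈ (I ^ m).ideal ⟨W, hW⟩ • (⊤ : Submodule Γ(X, W) Γ(G, W)) at ht
  rw [← htop, ← Submodule.map_smul''] at ht
  obtain ⟨e, he, hee⟩ := Submodule.mem_map.1 ht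
  obtain ⟨s, hs⟩ := (mem_idl E (I ^ m) ⟨W, hW⟩ e).2 he
  refine ⟨s, M1.app_injective (pmι I m G) W ?_⟩
  rw [← M1.comp_app_apply, Dual3.idealMul_map_ι, M1.comp_app_apply]
  exact (congrArg (g.app W) hs).trans hee

variable (A : Type u) [CommRing A] [X.Over (Spec (CommRingCat.of A))]

include A in
/-- Vanishing when the inclusion of a power factors through a module without cohomology. -/
theorem van_of_factor {E G : X.Modules} [Coh.IsQCoh E] [Coh.IsQCoh G] (N : ℕ) (a : pm I N G ⟶ E) (π : E ⟶ G)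
    (h : a ≫ π = pmι I N G) {i : ℕ}
    (hE : ∃ m₀, ∀ m, m₀ ≤ m → Subsingleton (Coh.HH X (pm I m E) i)) : Van I G i := by
  obtain ⟨m₀, hm₀⟩ := hE
  intro m
  obtain ⟨c, j, hj, hc⟩ := exists_map I N (max m m₀) a
  obtain ⟨e, he⟩ := exists_inclusion I (G := G) (le_max_left m m₀)
  refine ⟨max m m₀ + N, (le_max_left _ _).trans (Nat.le_add_right _ _), fun ι hι x => ?_⟩
  have hfac : ι = c ≫ ((Dual3.idealMul (I ^ max m m₀)).map π ≫ e) := by
    rw [← cancel_mono (pmι I m G), hι, Category.assoc, Category.assoc]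
    change _ = c ≫ (Dual3.idealMul (I ^ max m m₀)).map π ≫ e ≫ Dual3.idealMulι (I ^ m) G
    rw [he, Dual3.idealMul_map_ι, ← Category.assoc]
    change _ = (c ≫ pmι I (max m m₀) E) ≫ π
    rw [hc, Category.assoc, h, hj]
  haveI := hm₀ (max m m₀) (le_max_right _ _)
  change CurveCoh17.hmap A ι i x = 0
  rw [hfac, CurveCoh17.hmap_comp, show CurveCoh17.hmap A c i x = 0 from Subsingleton.elim _ _, map_zero]

include A in
/-- Vanishing for a module killed by a power. -/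
theorem van_of_killed {G : X.Modules} [Coh.IsQCoh G] (N : ℕ) (h : pmι I N G = 0) (i : ℕ) : Van I G i := by
  intro m
  refine ⟨max m N, le_max_left _ _, fun ι hι x => ?_⟩
  obtain ⟨e, he⟩ := exists_inclusion I (G := G) (le_max_right m N)
  have h0 : ι = 0 := by
    rw [← cancel_mono (pmι I m G), hι, zero_comp, pmι, ← he]
    change e ≫ pmι I N G = 0
    rw [h, comp_zero]
  change CurveCoh17.hmap A ι i x = 0
  rw [h0, CurveCoh17.hmap_zero]

variable [IsNoetherian X]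

include A in
/-- Vanishing passes to a quotient, raising the degree of the kernel. -/
theorem van_step {S : ShortComplex X.Modules} (hS : S.ShortExact) (h1 : Coh.IsQCoh S.X₁) (h2 : Coh.IsCoh S.X₂)
    (h3 : Coh.IsQCoh S.X₃) {i : ℕ}
    (hE : ∃ m₀, ∀ m, m₀ ≤ m → Subsingleton (Coh.HH X (pm I m S.X₂) i)) (hK : Van I S.X₁ (i + 1)) :
    Van I S.X₃ i := by
  haveI := h1; haveI := h2.1; haveI := h3
  haveI := hS.mono_f; haveI := hS.epi_g
  let g : ∀ m : ℕ, pm I m S.X₂ ⟶ pm I m S.X₃ := fun m => (Dual3.idealMul (I ^ m)).map S.g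
  haveI : ∀ m, Epi (g m) := fun m => epi_map I S.g m
  let T : ∀ m : ℕ, ShortComplex X.Modules := fun m => ShortComplex.mk (kernel.ι (g m)) (g m) (kernel.condition _)
  have hT : ∀ m, (T m).ShortExact := fun m => { exact := ShortComplex.exact_kernel _ }
  haveI hPq : ∀ m, Coh.IsQCoh (kernel (g m)) := fun m =>
    M1.isQCoh_kernel (isQCoh_idl _ _ h2.1) (isQCoh_idl _ _ h3) _
  let p : M1.Sub S.X₂ := ⟨S.X₁, S.f, inferInstance⟩
  obtain ⟨W, hW⟩ := exists_finite_affine_cover (X := X)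
  obtain ⟨c, hc⟩ := exists_artinRees h2 p I (fun k : W => k.1)
  -- the kernels lie between powers
  have hd : ∀ m, c ≤ m → ∃ d : kernel (g m) ⟶ pm I (m - c) S.X₁,
      d ≫ pmι I (m - c) S.X₁ ≫ S.f = kernel.ι (g m) ≫ pmι I m S.X₂ := by
    intro m hm
    have h0 : (kernel.ι (g m) ≫ pmι I m S.X₂) ≫ S.g = 0 := by
      rw [Category.assoc]
      change kernel.ι (g m) ≫ (Dual3.idealMulι (I ^ m) S.X₂ ≫ S.g) = 0
      rw [← Dual3.idealMul_map_ι, ← Category.assoc, kernel.condition, zero_comp]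
    obtain ⟨a, ha⟩ : ∃ a : kernel (g m) ⟶ S.X₁, a ≫ S.f = kernel.ι (g m) ≫ pmι I m S.X₂ :=
      ⟨hS.exact.lift _ h0, hS.exact.lift_f _ h0⟩
    obtain ⟨d, hd⟩ := exists_lift_affine a (idl S.X₁ (I ^ (m - c))) (fun k : W => k.1) hW fun k t => by
      rw [mem_idl, ideal_pow_apply]
      have hmem : S.f.app k.1.1 (a.app k.1.1 t) ∈
          ((I.ideal k.1) ^ m • ⊤ ⊓ secSub p k.1.1 : Submodule Γ(X, k.1.1) Γ(S.X₂, k.1.1)) := by
        refine ⟨?_, ⟨a.app k.1.1 t, rfl⟩⟩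
        have := (mem_idl S.X₂ (I ^ m) k.1 (S.f.app k.1.1 (a.app k.1.1 t))).1
          ⟨(kernel.ι (g m)).app k.1.1 t, by
            change (pmι I m S.X₂).app k.1.1 _ = _
            rw [← M1.comp_app_apply, ← ha, M1.comp_app_apply]⟩
        rw [ideal_pow_apply] at this
        exact this
      rw [hc m hm k] at hmem
      have hle : ((I.ideal k.1) ^ (m - c) • ((I.ideal k.1) ^ c • ⊤ ⊓ secSub p k.1.1) :
          Submodule Γ(X, k.1.1) Γ(S.X₂, k.1.1)) ≤
          Submodule.map (SchDom.appLin S.f k.1.1) ((I.ideal k.1) ^ (m - c) • ⊤) := by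
        rw [Submodule.map_smul'', Submodule.map_top]
        exact Submodule.smul_mono le_rfl inf_le_right
      obtain ⟨b, hb, hbe⟩ := Submodule.mem_map.1 (hle hmem)
      have hba : b = a.app k.1.1 t := M1.app_injective S.f k.1.1 hbe
      rwa [← hba]
    exact ⟨d, (Category.assoc _ _ _).symm.trans ((congrArg (· ≫ S.f) hd).trans ha)⟩
  have he : ∀ m, ∃ e : pm I m S.X₁ ⟶ kernel (g m),
      e ≫ kernel.ι (g m) ≫ pmι I m S.X₂ = pmι I m S.X₁ ≫ S.f := by
    intro m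
    refine ⟨kernel.lift (g m) ((Dual3.idealMul (I ^ m)).map S.f) ?_, ?_⟩
    · rw [← cancel_mono (pmι I m S.X₃), zero_comp, Category.assoc]
      change _ ≫ (Dual3.idealMul (I ^ m)).map S.g ≫ Dual3.idealMulι (I ^ m) S.X₃ = 0
      rw [Dual3.idealMul_map_ι, Dual3.idealMul_map_ι_assoc, S.zero, comp_zero]
    · rw [kernel.lift_ι_assoc]
      exact Dual3.idealMul_map_ι _ _
  obtain ⟨m₀, hm₀⟩ := hE
  intro m₁
  suffices h : ∃ m', max m₁ m₀ ≤ m' ∧ ∀ ι : pm I m' S.X₃ ⟶ pm I (max m₁ m₀) S.X₃,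
      ι ≫ pmι I (max m₁ m₀) S.X₃ = pmι I m' S.X₃ → ∀ x, CurveCoh17.hmap A ι i x = 0 by
    obtain ⟨m', hle, h⟩ := h
    refine ⟨m', (le_max_left _ _).trans hle, fun ι hι x => ?_⟩
    obtain ⟨a, ha⟩ := exists_inclusion I (G := S.X₃) hle
    obtain ⟨b, hb⟩ := exists_inclusion I (G := S.X₃) (le_max_left m₁ m₀)
    have hab : ι = a ≫ b := by
      rw [← cancel_mono (pmι I m₁ S.X₃), hι, Category.assoc]
      exact (show pmι I m' S.X₃ = a ≫ b ≫ Dual3.idealMulι (I ^ m₁) S.X₃ by rw [hb, ha])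
    change CurveCoh17.hmap A ι i x = 0
    rw [hab, CurveCoh17.hmap_comp, h a ha x, map_zero]
  generalize hgen : max m₁ m₀ = m
  have hm₀m : m₀ ≤ m := hgen ▸ le_max_right _ _
  obtain ⟨M, hmM, hM⟩ := hK m
  refine ⟨max (M + c) m, le_max_right _ _, fun ι hι x => ?_⟩
  obtain ⟨d, hd⟩ := hd (max (M + c) m) (by omega)
  obtain ⟨e, he⟩ := he m
  obtain ⟨v, hv⟩ := exists_inclusion I (G := S.X₁) (show M ≤ max (M + c) m - c by omega)
  obtain ⟨w, hw⟩ := exists_inclusion I (G := S.X₁) hmM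
  obtain ⟨u, hu⟩ := exists_inclusion I (G := S.X₂) (show m ≤ max (M + c) m by omega)
  let m' := max (M + c) m
  have hcomm : u ≫ g m = g m' ≫ ι := by
    rw [← cancel_mono (pmι I m S.X₃), Category.assoc, Category.assoc, hι]
    change u ≫ (Dual3.idealMul (I ^ m)).map S.g ≫ Dual3.idealMulι (I ^ m) S.X₃ =
      (Dual3.idealMul (I ^ m')).map S.g ≫ Dual3.idealMulι (I ^ m') S.X₃
    rw [Dual3.idealMul_map_ι, Dual3.idealMul_map_ι, ← Category.assoc, hu]
  let φ : T m' ⟶ T m :=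
    { τ₁ := d ≫ v ≫ w ≫ e, τ₂ := u, τ₃ := ι,
      comm₁₂ := by
        change (d ≫ v ≫ w ≫ e) ≫ kernel.ι (g m) = kernel.ι (g m') ≫ u
        rw [← cancel_mono (pmι I m S.X₂)]
        simp only [Category.assoc]
        rw [he]
        change d ≫ v ≫ w ≫ Dual3.idealMulι (I ^ m) S.X₁ ≫ S.f = kernel.ι (g m') ≫ u ≫ Dual3.idealMulι (I ^ m) S.X₂
        rw [hu, reassoc_of% hw, reassoc_of% hv]
        exact hd
      comm₂₃ := hcomm }
  haveI := hm₀ m hm₀m
  have h1 := DVRTriv4.hdelta_natural A (hT m') (hT m) φ i x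
  have hτ : CurveCoh17.hmap A φ.τ₁ (i + 1) (CurveCoh17.hdelta A (hT m') i x) = 0 := by
    change CurveCoh17.hmap A (d ≫ v ≫ w ≫ e) (i + 1) _ = 0
    rw [CurveCoh17.hmap_comp, CurveCoh17.hmap_comp, CurveCoh17.hmap_comp]
    rw [show ∀ z, CurveCoh17.hmap A w (i + 1) z = 0 from fun z => hM w hw z, map_zero]
  rw [hτ] at h1
  obtain ⟨y, hy⟩ := (CurveCoh17.exact_hmap_hdelta A (hT m) i (CurveCoh17.hmap A ι i x)).1 h1.symm
  rw [← hy, Subsingleton.elim y 0, map_zero]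

end Groth.Agent.TZ11
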