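import Groth.Agent.Lib.TateZero11.Proj
import Groth.Agent.Lib.CIProj14.Van
import Groth.Agent.Lib.CurveCoh17.IdealPow
import Groth.Agent.Lib.SecDiv18.Basic
import Groth.Agent.Lib.RelAmple18.UnivClosed

/-!
# Hypersurfaces of projective space
-/

set_option autoImplicit false
set_option linter.style.haveILetI false
set_option linter.unusedSectionVars false
set_option backward.isDefEq.respectTransparency false

universe u

open CategoryTheory CategoryTheory.Limits AlgebraicGeometry TopologicalSpace Opposite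

noncomputable section

namespace Groth.Agent.TZ11

open Groth.Agent

section Mono

variable {X : Scheme.{u}} [IsIntegral X]

/-- Germs in the structure module are multiples of the germ of one. -/
theorem germ_eq_smul_one {X : Scheme.{u}} {U : X.Opens} {x : X} (hx : x ∈ U) (t : Γ(X, U)) :
    ((Coh.structureModule X).presheaf.germ U x hx t : (Coh.structureModule X).presheaf.stalk x) =
      X.presheaf.germ U x hx t • Amp.gm (Coh.structureModule X) x hx (M1.one U) := by
  refine Eq.trans ?_ (M1.germ_smul (Coh.structureModule X) hx t (M1.one U))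
  exact congrArg _ (mul_one t).symm

theorem gen_one' {X : Scheme.{u}} {U : X.Opens} {x : X} (hx : x ∈ U) :
    Amp.Gen (Amp.gm (Coh.structureModule X) x hx (M1.one U)) := Amp.gen_one x hx

/-- A map to `O` from an invertible module which is onto somewhere is a monomorphism on an integral scheme. -/
theorem mono_of_surjective_at {N : X.Modules} (hN : PicF.IsInvertible N) (φ : N ⟶ Coh.structureModule X) {z : X}
    (hz : Function.Surjective (CurveCoh17.stalkLin φ z)) : Mono φ := by
  refine (M1.mono_iff_stalk φ).2 fun x => ?_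
  obtain ⟨U, e, hxU, -, -, he⟩ := Amp.exists_isGenerator hN (V := ⊤) (x := x) trivial
  have hval : ∀ {V : X.Opens} {y : X} (hy : y ∈ V) (t : Γ(N, V)), CurveCoh17.stalkLin φ y (Amp.gm N y hy t) =
      X.presheaf.germ V y hy (φ.app V t) • Amp.gm (Coh.structureModule X) y hy (M1.one V) := fun hy t =>
    (M1.germ_naturality φ _ _ hy t).trans (germ_eq_smul_one hy _)
  have hne : X.presheaf.germ U x hxU (φ.app U e) ≠ 0 := by
    intro h0
    haveI : Nonempty U := ⟨⟨x, hxU⟩⟩
    have hc0 : (φ.app U e : Γ(X, U)) = 0 := germ_injective_of_isIntegral X x hxU (h0.trans (map_zero _).symm)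
    obtain ⟨W, e', hzW, -, -, he'⟩ := Amp.exists_isGenerator hN (V := ⊤) (x := z) trivial
    have hηU : genericPoint X ∈ U := (genericPoint_specializes x).mem_open U.2 hxU
    have hηW : genericPoint X ∈ W := (genericPoint_specializes z).mem_open W.2 hzW
    have hη : ∀ v, CurveCoh17.stalkLin φ (genericPoint X) v = 0 := fun v => by
      obtain ⟨rr, rfl⟩ := (Amp.gen_of_isGenerator he hηU).2 v
      rw [map_smul, hval, hc0, map_zero, zero_smul, smul_zero]
    have h1 : X.presheaf.germ W (genericPoint X) hηW (φ.app W e') = 0 :=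
      (gen_one' hηW).1 (by
        simp only
        rw [zero_smul, ← hval hηW e', hη])
    haveI : Nonempty W := ⟨⟨z, hzW⟩⟩
    have hc' : (φ.app W e' : Γ(X, W)) = 0 :=
      germ_injective_of_isIntegral X (genericPoint X) hηW (h1.trans (map_zero _).symm)
    obtain ⟨u, hu⟩ := hz (Amp.gm (Coh.structureModule X) z hzW (M1.one W))
    obtain ⟨rr, rfl⟩ := (Amp.gen_of_isGenerator he' hzW).2 u
    rw [map_smul, hval, hc', map_zero, zero_smul, smul_zero] at hu
    exact one_ne_zero (α := X.presheaf.stalk z) ((gen_one' hzW).1 (by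
      simp only
      rw [one_smul, zero_smul, ← hu]))
  have hinj : Function.Injective (CurveCoh17.stalkLin φ x) := by
    refine (injective_iff_map_eq_zero _).2 fun u hu => ?_
    obtain ⟨rr, rfl⟩ := (Amp.gen_of_isGenerator he hxU).2 u
    rw [map_smul, hval, smul_smul] at hu
    have h1 : rr * X.presheaf.germ U x hxU (φ.app U e) = 0 := (gen_one' hxU).1 (by
      simp only
      rw [zero_smul, hu])
    show rr • Amp.gm N x hxU e = 0
    rw [(mul_eq_zero.1 h1).resolve_right hne, zero_smul]
  exact hinj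

end Mono

section Support

variable {X : Scheme.{u}}

theorem support_compl_ofMono {N : X.Modules} [Coh.IsQCoh N] (φ : N ⟶ Coh.structureModule X) :
    ((SecDiv.ofMono φ).support : Set X)ᶜ = {x | Function.Surjective (CurveCoh17.stalkLin φ x)} := by
  ext x
  obtain ⟨U, hU, hxU, -⟩ := exists_isAffineOpen_mem_and_subset (show x ∈ (⊤ : X.Opens) from trivial)
  rw [Set.mem_compl_iff, SetLike.mem_coe, Scheme.IdealSheafData.mem_support_iff_of_mem (U := ⟨U, hU⟩) hxU,
    Scheme.mem_zeroLocus_iff, Set.mem_setOf_eq]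
  have hgo := gen_one' hxU
  constructor
  · intro h
    push Not at h
    obtain ⟨b, ⟨a, rfl⟩, hxb⟩ := h
    obtain ⟨uu, huu⟩ := (X.mem_basicOpen _ x hxU).1 hxb
    intro v
    obtain ⟨c, rfl⟩ := hgo.2 v
    refine ⟨(c * ↑uu⁻¹) • Amp.gm N x hxU a, ?_⟩
    rw [map_smul, show CurveCoh17.stalkLin φ x (Amp.gm N x hxU a) =
      X.presheaf.germ U x hxU (φ.app U a) • Amp.gm (Coh.structureModule X) x hxU (M1.one U) from
      (M1.germ_naturality φ U x hxU a).trans (germ_eq_smul_one hxU _)]
    rw [show X.presheaf.germ U x hxU (φ.app U a) = ↑uu from huu.symm, smul_smul, mul_assoc, Units.inv_mul,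
      mul_one]
  · intro h hall
    obtain ⟨u, hu⟩ := h (Amp.gm (Coh.structureModule X) x hxU (M1.one U))
    obtain ⟨rr, a, hr, ha⟩ := M1.exists_germ_smul_eq N hU hxU u
    refine hall (φ.app U a) ⟨a, rfl⟩ ((X.mem_basicOpen _ x hxU).2 ?_)
    have h1 := congrArg (CurveCoh17.stalkLin φ x) ha
    rw [map_smul, hu] at h1
    have h2 := hgo.1 (h1.trans ((M1.germ_naturality φ U x hxU a).trans (germ_eq_smul_one hxU _)))
    rwa [← h2]

end Support

section Additive

variable {X : Scheme.{u}} (I : X.IdealSheafData)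

instance idealMul_additive : (Dual3.idealMul I).Additive where
  map_add {F G f g} := by
    rw [← cancel_mono (Dual3.idealMulι I G), Preadditive.add_comp, Dual3.idealMul_map_ι, Dual3.idealMul_map_ι,
      Dual3.idealMul_map_ι, Preadditive.comp_add]

theorem nonempty_pm_iso {L : X.Modules} (hL : PicF.IsInvertible L) :
    Nonempty ((Dual3.idealMul I).obj L ≅ CohB1.tensorMod L (ClSub.idealMod I)) := by
  obtain ⟨S, hS, ⟨e₁⟩, e₂, e₃, he⟩ := CIProj14.exists_shortExact I L hL
  exact ⟨(kernel.mapIso S.g ((Scheme.Modules.pullbackPushforwardAdjunction I.subschemeι).unit.app L) e₂ e₃ he).symm ≪≫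
    (IsLimit.conePointUniqueUpToIso hS.fIsKernel (kernelIsKernel S.g)).symm ≪≫ e₁⟩

end Additive

section Sum

variable {X : Scheme.{u}} (A : Type u) [CommRing A] [X.Over (Spec (CommRingCat.of A))]

include A in
/-- An additive functor whose value on `O` has no cohomology has none on free modules. -/
theorem van_freeMod (T : X.Modules ⥤ X.Modules) [T.Additive] {i : ℕ}
    (h : Subsingleton (Coh.HH X (T.obj (Coh.structureModule X)) i)) (l : ℕ) :
    Subsingleton (Coh.HH X (T.obj (FlatMod.freeMod X l)) i) := by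
  haveI : HasFiniteBiproducts X.Modules := Abelian.hasFiniteBiproducts
  let O := Coh.structureModule X
  let eb : (⨁ fun _ : Fin l => O) ≅ FlatMod.freeMod X l := biproduct.isoCoproduct _
  let α : Fin l → (FlatMod.freeMod X l ⟶ O) := fun j => eb.inv ≫ biproduct.π (fun _ : Fin l => O) j
  let β : Fin l → (O ⟶ FlatMod.freeMod X l) := fun j => biproduct.ι (fun _ : Fin l => O) j ≫ eb.hom
  have hsum : ∑ j, α j ≫ β j = 𝟙 _ := by
    simp only [α, β, Category.assoc]
    rw [← Preadditive.comp_sum]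
    simp only [← Category.assoc (biproduct.π _ _)]
    rw [← Preadditive.sum_comp, biproduct.total, Category.id_comp, eb.inv_hom_id]
  refine subsingleton_of_forall_eq 0 fun x => ?_
  have hs : ∀ t : Finset (Fin l), CurveCoh17.hmap A (T.map (∑ j ∈ t, α j ≫ β j)) i x = 0 := by
    intro t
    induction t using Finset.induction_on with
    | empty => rw [Finset.sum_empty, Functor.map_zero]; exact CurveCoh17.hmap_zero A i x
    | insert j t hj ih =>
      rw [Finset.sum_insert hj, Functor.map_add, CMReg18.hmap_add, ih, add_zero, Functor.map_comp,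
        CurveCoh17.hmap_comp]
      rw [show CurveCoh17.hmap A (T.map (α j)) i x = 0 from @Subsingleton.elim _ h _ _, map_zero]
  have h1 := hs Finset.univ
  rw [hsum, CategoryTheory.Functor.map_id, CurveCoh17.hmap_id] at h1
  exact h1

include A in
/-- Twisting data: negative `J`-powers of a twist are twists. -/
theorem van_twist (D : CMReg18.TwistData X) (J : X.IdealSheafData) {q : ℕ}
    (e : D.O (-(q : ℤ)) ≅ ClSub.idealMod J) (a : ℤ) (m i : ℕ)
    (h : Subsingleton (Coh.HH X (D.O (a + -((q * m : ℕ) : ℤ))) i)) :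
    Subsingleton (Coh.HH X ((Dual3.idealMul (J ^ m)).obj (CohB1.tensorMod (Coh.structureModule X) (D.O a))) i) := by
  have hp : ∀ m : ℕ, Nonempty (CohB1.tensorPow (ClSub.idealMod J) m ≅ D.O (-((q * m : ℕ) : ℤ))) := by
    intro m
    induction m with
    | zero => exact ⟨D.zero.symm ≪≫ eqToIso (by simp)⟩
    | succ m ih => exact ⟨M2.tensorIso ih.some e.symm ≪≫ D.add _ _ ≪≫ eqToIso (by congr 1; push_cast; ring)⟩
  obtain ⟨e1⟩ := nonempty_pm_iso (J ^ m) (L := CohB1.tensorMod (Coh.structureModule X) (D.O a))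
    (M2.isInvertible_tensor (PicLoc.isInvertible_structureModule _) (D.inv a))
  obtain ⟨e2⟩ := CurveCoh17.nonempty_idealMod_pow
    (SecDiv.isEffCartierIdeal_of_isInvertible J (M2.isInvertible_of_iso e (D.inv _))) m
  obtain ⟨e3⟩ := hp m
  exact CMReg18.van_iso A (e1 ≪≫ M2.tensorIso (M2.tensorLUnit _) (e2.symm ≪≫ e3) ≪≫ D.add _ _).symm h

end Sum

variable {k : Type u} [Field k] {r : ℕ}

theorem van_projO (q m : ℕ) (a : ℤ) (hq : 0 < q) (hm : a.toNat + 1 ≤ m) {i : ℕ} (hi : i < r) :
    Subsingleton (Coh.HH (CohB1.ProjSpace r k) ((CMReg18.projData k r).O (a + -((q * m : ℕ) : ℤ))) i) :=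
  ES11.subsingleton_twist_neg k r (by
    have h1 : m ≤ q * m := Nat.le_mul_of_pos_left m hq
    have h2 := Int.self_le_toNat a
    omega) hi

theorem van_pm_O (J : (CohB1.ProjSpace r k).IdealSheafData) {q : ℕ}
    (e : (CMReg18.projData k r).O (-(q : ℤ)) ≅ ClSub.idealMod J) (a : ℤ) (m i : ℕ)
    (h : Subsingleton (Coh.HH (CohB1.ProjSpace r k) ((CMReg18.projData k r).O (a + -((q * m : ℕ) : ℤ))) i)) :
    Subsingleton (Coh.HH (CohB1.ProjSpace r k)
      ((M2.tensorR ((CMReg18.projData k r).O a) ⋙ Dual3.idealMul (J ^ m)).obj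
        (Coh.structureModule (CohB1.ProjSpace r k))) i) :=
  van_twist k (CMReg18.projData k r) J e a m i h

theorem van_pm_free (J : (CohB1.ProjSpace r k).IdealSheafData) (a : ℤ) (l m i : ℕ)
    (h : Subsingleton (Coh.HH (CohB1.ProjSpace r k) ((M2.tensorR ((CMReg18.projData k r).O a) ⋙
      Dual3.idealMul (J ^ m)).obj (FlatMod.freeMod (CohB1.ProjSpace r k) l)) i)) :
    Subsingleton (Coh.HH (CohB1.ProjSpace r k)
      (pm J m (ES11.ptw (FlatMod.freeMod (CohB1.ProjSpace r k) l) a)) i) := h

theorem freeVan_of_iso (J : (CohB1.ProjSpace r k).IdealSheafData) {q : ℕ} (hq : 0 < q)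
    (e : (CMReg18.projData k r).O (-(q : ℤ)) ≅ ClSub.idealMod J) : FreeVan J := fun l a i hi =>
  ⟨a.toNat + 1, fun m hm => van_pm_free J a l m i
    (van_freeMod k _ (van_pm_O J e a m i (van_projO q m a hq hm hi)) l)⟩

section Twist

variable {X : Scheme.{u}} [IsIntegral X] (D : CMReg18.TwistData X) {A : Type u} [CommRing A]

theorem exists_ideal_of_twistSec (π : X ⟶ Spec (CommRingCat.of A)) [UniversallyClosed π]
    (hamp : CohB1.IsAmple (D.O 1)) {q : ℕ} (hq : 0 < q) (σ : Coh.structureModule X ⟶ D.O (q : ℤ))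
    (hne : (CohB1.genLocus (D.O (q : ℤ)) σ : Set X).Nonempty) :
    ∃ J : X.IdealSheafData, (J.support : Set X)ᶜ = CohB1.genLocus (D.O (q : ℤ)) σ ∧
      IsAffineOpen (CohB1.genLocus (D.O (q : ℤ)) σ) ∧ Nonempty (D.O (-(q : ℤ)) ≅ ClSub.idealMod J) := by
  let e : CohB1.tensorMod (D.O (q : ℤ)) (D.O (-(q : ℤ))) ≅ Coh.structureModule X :=
    D.add _ _ ≪≫ eqToIso (by rw [add_neg_cancel]) ≪≫ D.zero
  have hiff := fun x => Snapper.surjective_secMap_iff (D.inv (q : ℤ)) (D.inv (-(q : ℤ))) σ e x
  obtain ⟨z, hz⟩ := hne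
  haveI : Mono (Snapper.secMap σ e) := mono_of_surjective_at (D.inv _) _ ((hiff z).2 hz)
  haveI := (Snapper.isCoh_of_isInvertible (D.inv (-(q : ℤ)))).1
  obtain ⟨eI⟩ := SecDiv.nonempty_iso_idealMod (Snapper.secMap σ e)
  refine ⟨SecDiv.ofMono (Snapper.secMap σ e), ?_, ?_, ⟨eI⟩⟩
  · rw [support_compl_ofMono]
    exact Set.ext hiff
  · exact RA.isAffineOpen_genLocus_of_universallyClosed π
      (Amp.isAmple_of_iso (D.powIso q) ((Amp.isAmple_tensorPow_iff (D.inv 1) hq).2 hamp)) σ

end Twist

/-- The hypersurface of a section of a positive twist. -/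
theorem exists_hyper {q : ℕ} (hq : 0 < q)
    (σ : Coh.structureModule (CohB1.ProjSpace r k) ⟶ (CMReg18.projData k r).O (q : ℤ))
    (hne : (CohB1.genLocus ((CMReg18.projData k r).O (q : ℤ)) σ : Set (CohB1.ProjSpace r k)).Nonempty) :
    ∃ J : (CohB1.ProjSpace r k).IdealSheafData,
      (J.support : Set (CohB1.ProjSpace r k))ᶜ = CohB1.genLocus ((CMReg18.projData k r).O (q : ℤ)) σ ∧
      IsAffineOpen (cOpen J) ∧ FreeVan J := by
  haveI : IsIntegral (CohB1.ProjSpace r k) := RegExt.isIntegral_projSpace r k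
  haveI : IsProper (CohB1.ProjSpace.toSpec r k) := ProjSpace.isProper_toSpec r k
  obtain ⟨J, hs, ha, ⟨e⟩⟩ := exists_ideal_of_twistSec (CMReg18.projData k r) (CohB1.ProjSpace.toSpec r k)
    (CMReg18.isAmple_twistOne k) hq σ hne
  refine ⟨J, hs, ?_, freeVan_of_iso J hq e⟩
  rw [show cOpen J = CohB1.genLocus ((CMReg18.projData k r).O (q : ℤ)) σ from Opens.ext hs]
  exact ha

end Groth.Agent.TZ11
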