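import Groth.Agent.Lib.TateZero11.Lim

/-!
# Units and the transition maps of the completion of a module
-/

set_option autoImplicit false
set_option backward.isDefEq.respectTransparency false
set_option maxHeartbeats 1600000

universe u

open CategoryTheory CategoryTheory.Limits AlgebraicGeometry TopologicalSpace Opposite

noncomputable section

namespace Groth.Agent.TZ11

open Groth.Agent

variable {X : Scheme.{u}}

/-- Transition maps of the completion of a module. -/
abbrev complTau (I : X.IdealSheafData) (F : X.Modules) (n : ℕ) :=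
  (Scheme.Modules.pushforward (FSch.completionToX X I (n + 1))).map
      ((Scheme.Modules.pullbackPushforwardAdjunction ((FSch.completionAlong X I).ι n)).unit.app
        ((FSch.completionMod I F).F (n + 1))) ≫
    (Scheme.Modules.pushforwardComp ((FSch.completionAlong X I).ι n) (FSch.completionToX X I (n + 1))).hom.app _ ≫
    (Scheme.Modules.pushforwardCongr
      (Scheme.IdealSheafData.inclusion_subschemeι (FSch.pow_succ_le X I n))).hom.app _ ≫
    (Scheme.Modules.pushforward (FSch.completionToX X I n)).map ((FSch.completionMod I F).e n).hom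

theorem unit_comp_transition {Z Z' : Scheme.{u}} (p : Z ⟶ Z') (g' : Z' ⟶ X) (h : Z ⟶ X) (w : p ≫ g' = h)
    (F : X.Modules) :
    (Scheme.Modules.pullbackPushforwardAdjunction g').unit.app F ≫
      (Scheme.Modules.pushforward g').map
          ((Scheme.Modules.pullbackPushforwardAdjunction p).unit.app ((Scheme.Modules.pullback g').obj F)) ≫
        (Scheme.Modules.pushforwardComp p g').hom.app _ ≫
        (Scheme.Modules.pushforwardCongr w).hom.app _ ≫
        (Scheme.Modules.pushforward h).map ((ModLimH13.cmp p g' w).hom.app F) =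
      (Scheme.Modules.pullbackPushforwardAdjunction h).unit.app F := by
  ext U s
  have e' : h ⁻¹ᵁ U ≤ p ⁻¹ᵁ (g' ⁻¹ᵁ U) := by rw [← w]; exact le_rfl
  have hc := ModLimH13.cmp_res' p g' F w (e := (le_rfl : g' ⁻¹ᵁ U ≤ g' ⁻¹ᵁ U)) e' s
  simp only [ModLimH13.res', M1.mres_id] at hc
  exact hc

/-- `unit_comp_transition` with the pieces named by equations. -/
theorem unit_comp_transition' {Z Z' : Scheme.{u}} (p : Z ⟶ Z') (g' : Z' ⟶ X) (h : Z ⟶ X) (w : p ≫ g' = h)
    (F : X.Modules) (G : Z'.Modules) (H : Z.Modules) (u₁ : F ⟶ (Scheme.Modules.pushforward g').obj G)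
    (u₀ : F ⟶ (Scheme.Modules.pushforward h).obj H) (e : (Scheme.Modules.pullback p).obj G ⟶ H)
    (p' : Z ⟶ Z') (w' : p' ≫ g' = h) (hp : p' = p)
    (hG : G = (Scheme.Modules.pullback g').obj F) (hH : H = (Scheme.Modules.pullback h).obj F)
    (hu₁ : HEq u₁ ((Scheme.Modules.pullbackPushforwardAdjunction g').unit.app F))
    (hu₀ : HEq u₀ ((Scheme.Modules.pullbackPushforwardAdjunction h).unit.app F))
    (E : (Scheme.Modules.pullback p).obj G ≅ H) (heE : e = E.hom)
    (he : HEq E ((Scheme.Modules.pullbackComp p' g').app F ≪≫ (Scheme.Modules.pullbackCongr w').app F)) :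
    u₁ ≫ (Scheme.Modules.pushforward g').map
          ((Scheme.Modules.pullbackPushforwardAdjunction p).unit.app G) ≫
        (Scheme.Modules.pushforwardComp p g').hom.app _ ≫
        (Scheme.Modules.pushforwardCongr w).hom.app _ ≫
        (Scheme.Modules.pushforward h).map e = u₀ := by
  subst hp hG hH heE
  rw [eq_of_heq hu₁, eq_of_heq hu₀, show E.hom = (ModLimH13.cmp p' g' w').hom.app F from
    (congrArg Iso.hom (eq_of_heq he)).trans rfl]
  exact unit_comp_transition p' g' h w F

/-- The unit at a level, landing in the completion. -/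
def complPi (I : X.IdealSheafData) (F : X.Modules) (n : ℕ) :
    F ⟶ (Scheme.Modules.pushforward (FSch.completionToX X I n)).obj ((FSch.completionMod I F).F n) :=
  (Scheme.Modules.pullbackPushforwardAdjunction (FSch.completionToX X I n)).unit.app F

theorem completionMod_e_eq (I : X.IdealSheafData) (F : X.Modules) (n : ℕ) :
    (FSch.completionMod I F).e n = (Scheme.Modules.pullbackComp (Scheme.IdealSheafData.inclusion (FSch.pow_succ_le X I n))
      (FSch.completionToX X I (n + 1))).app F ≪≫
    (Scheme.Modules.pullbackCongr (Scheme.IdealSheafData.inclusion_subschemeι (FSch.pow_succ_le X I n))).app F := rfl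

attribute [local irreducible] Scheme.Modules.pullback Scheme.Modules.pushforward Scheme.Modules.pullbackComp
  Scheme.Modules.pullbackCongr Scheme.Modules.pullbackPushforwardAdjunction Scheme.Modules.pushforwardComp
  Scheme.Modules.pushforwardCongr ModLimH13.cmp

theorem complPi_comp_complTau (I : X.IdealSheafData) (F : X.Modules) (n : ℕ) :
    complPi I F (n + 1) ≫ complTau I F n = complPi I F n :=
  unit_comp_transition' ((FSch.completionAlong X I).ι n) (FSch.completionToX X I (n + 1))
    (FSch.completionToX X I n) (Scheme.IdealSheafData.inclusion_subschemeι (FSch.pow_succ_le X I n)) F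
    ((FSch.completionMod I F).F (n + 1)) ((FSch.completionMod I F).F n)
    (complPi I F (n + 1)) (complPi I F n) ((FSch.completionMod I F).e n).hom
    (Scheme.IdealSheafData.inclusion (FSch.pow_succ_le X I n))
    (Scheme.IdealSheafData.inclusion_subschemeι (FSch.pow_succ_le X I n)) rfl rfl rfl
    HEq.rfl HEq.rfl
    ((FSch.completionMod I F).e n) rfl (heq_of_eq (completionMod_e_eq I F n))

theorem complTau_def (I : X.IdealSheafData) (F : X.Modules) (n : ℕ) : complTau I F n = ((Scheme.Modules.pushforward (FSch.completionToX X I (n + 1))).map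
      ((Scheme.Modules.pullbackPushforwardAdjunction ((FSch.completionAlong X I).ι n)).unit.app
        ((FSch.completionMod I F).F (n + 1))) ≫
    (Scheme.Modules.pushforwardComp ((FSch.completionAlong X I).ι n) (FSch.completionToX X I (n + 1))).hom.app _ ≫
    (Scheme.Modules.pushforwardCongr
      (Scheme.IdealSheafData.inclusion_subschemeι (FSch.pow_succ_le X I n))).hom.app _ ≫
    (Scheme.Modules.pushforward (FSch.completionToX X I n)).map ((FSch.completionMod I F).e n).hom) := Eq.refl _

theorem complTau_app (I : X.IdealSheafData) (F : X.Modules) (n : ℕ) (V : X.Opens) (a) : Scheme.Modules.Hom.app ((Scheme.Modules.pushforward (FSch.completionToX X I (n + 1))).map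
      ((Scheme.Modules.pullbackPushforwardAdjunction ((FSch.completionAlong X I).ι n)).unit.app
        ((FSch.completionMod I F).F (n + 1))) ≫
    (Scheme.Modules.pushforwardComp ((FSch.completionAlong X I).ι n) (FSch.completionToX X I (n + 1))).hom.app _ ≫
    (Scheme.Modules.pushforwardCongr
      (Scheme.IdealSheafData.inclusion_subschemeι (FSch.pow_succ_le X I n))).hom.app _ ≫
    (Scheme.Modules.pushforward (FSch.completionToX X I n)).map ((FSch.completionMod I F).e n).hom) V a = (Scheme.Modules.Hom.app (complTau I F n) V a) :=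
  congrArg (fun φ => Scheme.Modules.Hom.app φ V a) (complTau_def I F n).symm

end Groth.Agent.TZ11
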