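import Groth.Agent.Lib.TateZero11.Basic
import Groth.Agent.Lib.EnriquesSeveri11.NegVan
import Groth.Agent.Lib.RegImm26.Diag
import Groth.Agent.Lib.RegExt.P1
import Groth.Agent.Lib.DPerf.Locus
import Groth.Agent.Lib.DPerf.Noeth
import Groth.Agent.Lib.CohMop.ExtAdjDual
import Groth.Agent.Lib.CohMop.Bidual
import Groth.Agent.Lib.IdealMul.Generic
import Groth.Agent.S10829

/-!
# Transition maps that kill cohomology, on projective space
-/

set_option autoImplicit false
set_option linter.style.haveILetI false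
set_option linter.unusedSectionVars false
set_option backward.isDefEq.respectTransparency false

universe u

open CategoryTheory CategoryTheory.Limits AlgebraicGeometry TopologicalSpace Opposite

noncomputable section

namespace Groth.Agent.TZ11

open Groth.Agent IdealMulL Abelian

section Split

variable {Y : Scheme.{u}} [IsAffine Y]

/-- An epimorphism onto a finite locally free module on an affine scheme has a section. -/
theorem exists_section_of_epi {E G : Y.Modules} (hE : Coh.IsQCoh E) (hG : FlatMod.IsFinLocFree G) (π : E ⟶ G)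
    [Epi π] : ∃ s : G ⟶ E, s ≫ π = 𝟙 G := by
  have hK : Coh.IsQCoh (kernel π) := M1.isQCoh_kernel hE (M2.isQCoh_of_isFinLocFree hG) π
  haveI : ModSite.HasSheafHom (O := Y.sheaf) G := CohMop.isLeftAdjoint_tenR _
  haveI := CohMop.isIso_dualMap (kernel π) hG
  haveI : Coh.IsQCoh ((CohMop.ihom G).obj (kernel π)) :=
    M1.isQCoh_of_isIso (asIso (CohMop.dualMap (kernel π) G))
      (M2.isQCoh_tensor hK (M2.isQCoh_of_isFinLocFree (CohMop.isFinLocFree_dual hG)))
  obtain ⟨e⟩ := CohMop.nonempty_ext_addEquiv_HH hG (kernel π) 1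
  haveI : Subsingleton (Coh.HH Y ((CohMop.ihom G).obj (kernel π)) 1) :=
    CohFound.subsingleton_HH_affine _ 1 Nat.one_pos
  have hS : (ShortComplex.mk (kernel.ι π) π (kernel.condition π)).ShortExact :=
    { exact := ShortComplex.exact_kernel π }
  obtain ⟨a, ha⟩ := Ext.covariant_sequence_exact₃ G hS (Ext.mk₀ (𝟙 G)) (zero_add 1)
    (e.injective (Subsingleton.elim _ _))
  obtain ⟨s, rfl⟩ := (Ext.mk₀_bijective G E).2 a
  refine ⟨s, (Ext.mk₀_bijective G G).1 ?_⟩
  rw [← ha, Ext.mk₀_comp_mk₀]

end Split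

variable {k : Type u} [Field k] {r : ℕ}

/-- Local dimension plus dimension of the closure on projective space. -/
theorem exists_dim_pair (y : (CohB1.ProjSpace r k)) : ∃ a b : ℕ, ringKrullDim ((CohB1.ProjSpace r k).presheaf.stalk y) = (a : WithBot ℕ∞) ∧
    topologicalKrullDim ↥(closure ({y} : Set (CohB1.ProjSpace r k))) = (b : WithBot ℕ∞) ∧ a + b = r := by
  haveI : IsIntegral (CohB1.ProjSpace r k) := RegExt.isIntegral_projSpace r k
  haveI : SmoothOfRelativeDimension r (CohB1.ProjSpace.toSpec r k) :=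
    ProjSpace.smoothOfRelativeDimension_toSpec r k
  haveI : Smooth (CohB1.ProjSpace.toSpec r k) := SmoothOfRelativeDimension.smooth r _
  haveI : IsProper (CohB1.ProjSpace.toSpec r k) := ProjSpace.isProper_toSpec r k
  haveI : LocallyOfFiniteType (CohB1.ProjSpace.toSpec r k) := inferInstance
  obtain ⟨a, ha, hab⟩ := RegImm26.coheight_add_sdim (CohB1.ProjSpace.toSpec r k)
    (Groth.Agent.S10829.result k r) y
  refine ⟨a, _, ?_, VarDim.dim_closure_singleton (CohB1.ProjSpace.toSpec r k) y, hab⟩
  rw [ringKrullDim_stalk_eq_coheight, ha]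
  rfl

theorem depth_stalk_eq (y : (CohB1.ProjSpace r k)) {a : ℕ} (ha : ringKrullDim ((CohB1.ProjSpace r k).presheaf.stalk y) = (a : WithBot ℕ∞)) :
    LocCoh.depth ((CohB1.ProjSpace r k).presheaf.stalk y) ((CohB1.ProjSpace r k).presheaf.stalk y) = a := by
  haveI := ES11.regular_stalk k r y
  haveI := DepthLib.isCohenMacaulayLocalRing_of_isRegularLocalRing (R := (CohB1.ProjSpace r k).presheaf.stalk y)
  have h := (LocCoh.IsCohenMacaulayLocalRing.supportDim_eq_depth (R := (CohB1.ProjSpace r k).presheaf.stalk y))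
  rw [Module.supportDim_self_eq_ringKrullDim, ha] at h
  exact_mod_cast h.symm

variable (J : (CohB1.ProjSpace r k).IdealSheafData)

/-- `d ≤ depth + dim closure` off `V(J)`. -/
def DepthDim (G : (CohB1.ProjSpace r k).Modules) (d : ℕ) : Prop :=
  ∀ y : (CohB1.ProjSpace r k), y ∉ (J.support : Set (CohB1.ProjSpace r k)) → ∀ b : ℕ, topologicalKrullDim ↥(closure ({y} : Set (CohB1.ProjSpace r k))) = (b : WithBot ℕ∞) →
    (d : ℕ∞) ≤ LocCoh.depth ((CohB1.ProjSpace r k).presheaf.stalk y) (G.presheaf.stalk y) + b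

/-- The twisted free modules have no cohomology in their negative `J`-powers. -/
def FreeVan : Prop :=
  ∀ (l : ℕ) (a : ℤ) (i : ℕ), i < r → ∃ m₀, ∀ m, m₀ ≤ m →
    Subsingleton (Coh.HH (CohB1.ProjSpace r k) (pm J m (ES11.ptw (FlatMod.freeMod (CohB1.ProjSpace r k) l) a)) i)

/-- The open complement of `V(J)`. -/
abbrev cOpen : (CohB1.ProjSpace r k).Opens := ⟨(J.support : Set (CohB1.ProjSpace r k))ᶜ, J.support.isClosed.isOpen_compl⟩

variable {J}

theorem isNoetherian_proj : AlgebraicGeometry.IsNoetherian (CohB1.ProjSpace r k) := by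
  haveI : IsProper (CohB1.ProjSpace.toSpec r k) := ProjSpace.isProper_toSpec r k
  exact CohFound.isNoetherian_of_isProper (CohB1.ProjSpace.toSpec r k)

theorem van_of_stalk_zero {G : (CohB1.ProjSpace r k).Modules} (hG : Coh.IsCoh G)
    (h : ∀ y : (CohB1.ProjSpace r k), y ∉ (J.support : Set (CohB1.ProjSpace r k)) → Subsingleton (G.presheaf.stalk y)) (i : ℕ) : Van J G i := by
  haveI := isNoetherian_proj (k := k) (r := r)
  haveI := hG.1
  let R := Scheme.Modules.restrictFunctor (cOpen J).ι
  haveI : IsIso (R.map (0 : G ⟶ G)) := isIso_restrict_map _ _ fun y hy => by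
    haveI := h y hy
    exact ⟨fun a b _ => Subsingleton.elim a b, fun b => ⟨0, Subsingleton.elim _ _⟩⟩
  have hz : R.map (pmι J 0 G) = 0 := by
    have h0 : IsZero (R.obj G) := by
      rw [IsZero.iff_id_eq_zero, ← cancel_mono (R.map (0 : G ⟶ G))]
      simp
    exact h0.eq_of_tgt _ _
  obtain ⟨N, ι, -, hι, hι0⟩ := exists_comp_eq_zero J hG hG.1 rfl 0 (pmι J 0 G) hz
  exact van_of_killed J k N (hι.symm.trans hι0) i

theorem van_of_free (hJ : IsAffineOpen (cOpen J)) (hfree : FreeVan J) {G : (CohB1.ProjSpace r k).Modules} (hG : Coh.IsCoh G)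
    (h : ∀ y : (CohB1.ProjSpace r k), y ∉ (J.support : Set (CohB1.ProjSpace r k)) → Module.Free ((CohB1.ProjSpace r k).presheaf.stalk y) (G.presheaf.stalk y))
    {i : ℕ} (hi : i < r) : Van J G i := by
  haveI := isNoetherian_proj (k := k) (r := r)
  haveI := hG.1
  obtain ⟨n, l, π, hπ⟩ := ES11.exists_epi_twisted_free hG
  haveI := hπ
  let E := ES11.ptw (FlatMod.freeMod (CohB1.ProjSpace r k) l) (-n)
  have hEc : Coh.IsCoh E := CohFound.isCoh_of_isFinLocFree (ES11.isFinLocFree_twisted_free l (-n))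
  haveI := hEc.1
  let R := Scheme.Modules.restrictFunctor (cOpen J).ι
  haveI : IsAffine (cOpen J : Scheme.{u}) := hJ
  haveI : IsLocallyNoetherian (cOpen J : Scheme.{u}) := LocallyOfFiniteType.isLocallyNoetherian (cOpen J).ι
  have hRG : Coh.IsCoh (R.obj G) := DPerf.isCoh_restrict hG _
  have hlf : FlatMod.IsFinLocFree (R.obj G) :=
    (M1.isFinLocFree_iff _).2 ⟨M1.isFP_of_isCoh hRG, fun z =>
      ((DPerf.ff_restrict_iff (cOpen J).ι G z).2 ⟨h _ z.2, M1.finite_stalk hG.1 hG.2 _⟩).1⟩
  haveI : Epi (R.map π) :=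
    haveI := (Scheme.Modules.restrictAdjunction (cOpen J).ι).isLeftAdjoint
    inferInstance
  obtain ⟨s, hs⟩ := exists_section_of_epi (DPerf.isCoh_restrict hEc (cOpen J).ι).1 hlf (R.map π)
  obtain ⟨a, ψ, hψ⟩ := exists_extend hEc.1 hG J rfl s
  have h0 : R.map (ψ ≫ π - pmι J a G) = 0 := by
    rw [Functor.map_sub, Functor.map_comp]
    erw [hψ]
    rw [Category.assoc, hs, Category.comp_id, sub_self]
  obtain ⟨N, ι, -, hι, hι0⟩ := exists_comp_eq_zero J hG hG.1 rfl a (ψ ≫ π - pmι J a G) h0
  rw [Preadditive.comp_sub, sub_eq_zero] at hι0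
  exact van_of_factor J k N (ι ≫ ψ) π ((Category.assoc _ _ _).trans (hι0.trans hι)) (hfree l (-n) i hi)

theorem van_of_depthDim (hJ : IsAffineOpen (cOpen J)) (hfree : FreeVan J) :
    ∀ (e d : ℕ) {G : (CohB1.ProjSpace r k).Modules}, d + e = r → Coh.IsCoh G → DepthDim J G d → ∀ i, i < d → Van J G i := by
  haveI : ∀ x, IsRegularLocalRing ((CohB1.ProjSpace r k).presheaf.stalk x) := ES11.regular_stalk k r
  haveI := isNoetherian_proj (k := k) (r := r)
  intro e
  induction e with
  | zero =>
    intro d G hd hG hdep i hi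
    refine van_of_free hJ hfree hG (fun y hy => ?_) (by omega)
    obtain ⟨a, b, ha, hb, hab⟩ := exists_dim_pair y
    haveI := M1.finite_stalk hG.1 hG.2 y
    have hle : (a : ℕ∞) ≤ LocCoh.depth ((CohB1.ProjSpace r k).presheaf.stalk y) (G.presheaf.stalk y) := by
      refine (ENat.add_le_add_iff_right (ENat.natCast_ne_top b)).1 ?_
      refine le_trans ?_ (hdep y hy b hb)
      exact_mod_cast (by omega : a + b ≤ d)
    haveI : Module.Projective ((CohB1.ProjSpace r k).presheaf.stalk y) (G.presheaf.stalk y) :=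
      AB5.projective_of_depth_ge a _ (depth_stalk_eq y ha) _ ⟨_, RegLoc.pd_le_spanFinrank _ _ rfl _⟩ hle
    exact Module.free_of_flat_of_isLocalRing
  | succ e ih =>
    intro d G hd hG hdep i hi
    obtain ⟨n, l, p, hp⟩ := ES11.exists_epi_twisted_free hG
    haveI := hp
    let S : ShortComplex (CohB1.ProjSpace r k).Modules := ShortComplex.mk (kernel.ι p) p (kernel.condition p)
    have hS : S.ShortExact := { exact := ShortComplex.exact_kernel p }
    have hE := ES11.isFinLocFree_twisted_free (k := k) (r := r) l (-n)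
    have hEc := CohFound.isCoh_of_isFinLocFree hE
    have hKc : Coh.IsCoh (kernel p) := M1.isCoh_kernel hEc hG.1 p
    have hdK : DepthDim J (kernel p) (d + 1) := fun y hy b hb => by
      obtain ⟨a, b', ha, hb', hab⟩ := exists_dim_pair y
      obtain rfl : b = b' := by
        have := hb.symm.trans hb'
        exact_mod_cast this
      haveI := M1.finite_stalk hG.1 hG.2 y
      haveI := M1.finite_stalk hEc.1 hEc.2 y
      haveI := M1.finite_stalk hKc.1 hKc.2 y
      haveI := ((M1.isFinLocFree_iff _).1 hE).2 y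
      obtain ⟨h1, h2, h3⟩ := Cyc26.stalkLin_exact hS y
      have hineq := (DepthLib.idealDepth_shortExact
        (I := IsLocalRing.maximalIdeal ((CohB1.ProjSpace r k).presheaf.stalk y))
        (DepthLib.shortExact_of_linearMap h1 h3 h2)).2.2
      refine le_trans ?_ (add_le_add_left hineq _)
      refine le_trans (le_min ?_ ?_) (min_add_add_right _ _ _).le
      · refine le_trans (b := (a : ℕ∞) + b) (by exact_mod_cast (by omega : d + 1 ≤ a + b)) (add_le_add_left ?_ _)
        rcases subsingleton_or_nontrivial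
          ((ES11.ptw (FlatMod.freeMod (CohB1.ProjSpace r k) l) (-n)).presheaf.stalk y : Type u) with hs | hs
        · rw [DepthLib.idealDepth_of_smul_top_eq_top (Subsingleton.elim _ _)]
          exact le_top
        · change _ ≤ LocCoh.depth _ _
          rw [AB5.depth_of_projective, depth_stalk_eq y ha]
      · rw [add_right_comm, Nat.cast_add, Nat.cast_one]
        exact add_le_add_left (hdep y hy b hb) 1
    exact van_step J k hS hKc.1 hEc hG.1 (hfree l (-n) i (by omega))
      (ih (d + 1) (by omega) hKc hdK (i + 1) (by omega))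

/-- On projective space: transition maps kill cohomology up to degree `n` when `depth + dim > n` off `V(J)`. -/
theorem van_of_gt (hJ : IsAffineOpen (cOpen J)) (hfree : FreeVan J) {G : (CohB1.ProjSpace r k).Modules} (hG : Coh.IsCoh G) (n : ℕ)
    (h : ∀ y : (CohB1.ProjSpace r k), y ∉ (J.support : Set (CohB1.ProjSpace r k)) → ∀ b : ℕ,
      topologicalKrullDim ↥(closure ({y} : Set (CohB1.ProjSpace r k))) = (b : WithBot ℕ∞) →
      (n : ℕ∞) < LocCoh.depth ((CohB1.ProjSpace r k).presheaf.stalk y) (G.presheaf.stalk y) + b)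
    {i : ℕ} (hi : i ≤ n) : Van J G i := by
  by_cases hn : n < r
  · refine van_of_depthDim hJ hfree (r - (n + 1)) (n + 1) (by omega) hG (fun y hy b hb => ?_) i (by omega)
    exact_mod_cast Order.add_one_le_of_lt (h y hy b hb)
  · haveI := isNoetherian_proj (k := k) (r := r)
    refine van_of_stalk_zero hG (fun y hy => ?_) i
    by_contra hs
    haveI : Nontrivial (G.presheaf.stalk y) := not_subsingleton_iff_nontrivial.1 hs
    haveI := M1.finite_stalk hG.1 hG.2 y
    haveI := ES11.regular_stalk k r y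
    obtain ⟨a, b, ha, hb, hab⟩ := exists_dim_pair y
    have h1 : LocCoh.depth ((CohB1.ProjSpace r k).presheaf.stalk y) (G.presheaf.stalk y) ≤ (a : ℕ∞) := by
      have := le_trans DepthLib.depth_le_supportDim
        (le_of_le_of_eq (Module.supportDim_le_ringKrullDim ((CohB1.ProjSpace r k).presheaf.stalk y) (G.presheaf.stalk y)) ha)
      exact_mod_cast this
    refine absurd (h y hy b hb) (not_lt.2 (le_trans (add_le_add_left h1 _) ?_))
    exact_mod_cast (by omega : a + b ≤ n)

end Groth.Agent.TZ11
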