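import Groth.Agent.Lib.TateZero11.LimCompl
import Groth.Agent.Lib.CurveCoh17.Skyscraper

/-!
# Sections over an open neighbourhood and the formal limit
-/

set_option autoImplicit false
set_option backward.isDefEq.respectTransparency false
set_option maxHeartbeats 1600000

universe u

open CategoryTheory CategoryTheory.Limits AlgebraicGeometry TopologicalSpace Opposite

noncomputable section

namespace Groth.Agent.TZ11

open Groth.Agent

variable {X : Scheme.{u}}

/-- Sections of a direct image over an open containing the source. -/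
theorem bijective_map_pushforward {Z : Scheme.{u}} (g : Z ⟶ X) (N : Z.Modules) {V : X.Opens}
    (hV : g ⁻¹ᵁ V = ⊤) :
    Function.Bijective (M1.mres ((Scheme.Modules.pushforward g).obj N) (le_top : V ≤ ⊤)) := by
  have hle : g ⁻¹ᵁ (⊤ : X.Opens) ≤ g ⁻¹ᵁ V := by rw [hV]; exact le_top
  have hge : g ⁻¹ᵁ V ≤ g ⁻¹ᵁ (⊤ : X.Opens) := g.preimage_mono le_top
  have hb : Function.Bijective (M1.mres N hge) := by
    refine ⟨fun a b h => ?_, fun t => ⟨M1.mres N hle t, ?_⟩⟩
    · have := congrArg (M1.mres N hle) h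
      rw [M1.mres_mres, M1.mres_mres, M1.mres_id, M1.mres_id] at this
      exact this
    · rw [M1.mres_mres, M1.mres_id]
  exact hb

/-- Sections on `V` and the limit, given extension to `⊤`. -/
theorem sections_bijective (A : Type u) [CommRing A] [X.Over (Spec (CommRingCat.of A))]
    {F : X.Modules} (Q : ℕ → X.Modules) (π : ∀ m, F ⟶ Q m) (τ : ∀ m, Q (m + 1) ⟶ Q m)
    (hτ : ∀ m, π (m + 1) ≫ τ m = π m) {K : ℕ → X.Modules} (ι : ∀ m, K m ⟶ F) (w : ∀ m, ι m ≫ π m = 0)
    (hS : ∀ m, (ShortComplex.mk (ι m) (π m) (w m)).ShortExact) (h0 : KerVan ι 0) (h1 : KerVan ι 1)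
    (V : X.Opens) (hF : Function.Bijective (M1.mres F (le_top : V ≤ ⊤)))
    (hQ : ∀ m, Function.Bijective (M1.mres (Q m) (le_top : V ≤ ⊤))) :
    (∀ σ : Γ(F, V), (∀ m, (π m).app V σ = 0) → σ = 0) ∧
      ∀ y : ∀ m, Γ(Q m, V), (∀ m, (τ m).app V (y (m + 1)) = y m) → ∃ σ, ∀ m, (π m).app V σ = y m := by
  obtain ⟨hinj, hsurj⟩ := formal_bijective A Q π τ hτ ι w hS h0 h1
  constructor
  · intro σ hσ
    obtain ⟨a, rfl⟩ := hF.2 σ
    have ha : ∀ m, (π m).app ⊤ a = 0 := fun m => (hQ m).1 (by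
      rw [← M1.app_mres, hσ m, map_zero])
    have hx : (CurveCoh17.hh0 F).symm a = 0 := hinj _ fun m => (CurveCoh17.hh0 (Q m)).injective (by
      rw [CurveCoh17.hh0_hmap, AddEquiv.apply_symm_apply, ha m, map_zero])
    rw [(AddEquiv.symm_apply_eq _).1 hx, map_zero, map_zero]
  · intro y hy
    choose Y hY using fun m => (hQ m).2 (y m)
    obtain ⟨x, hx⟩ := hsurj (fun m => (CurveCoh17.hh0 (Q m)).symm (Y m)) fun m =>
      (CurveCoh17.hh0 (Q m)).injective (by
        rw [CurveCoh17.hh0_hmap, AddEquiv.apply_symm_apply, AddEquiv.apply_symm_apply]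
        refine (hQ m).1 ?_
        rw [← M1.app_mres, hY, hY]
        exact hy m)
    refine ⟨M1.mres F le_top (CurveCoh17.hh0 F x), fun m => ?_⟩
    have h := congrArg (CurveCoh17.hh0 (Q m)) (hx m)
    rw [CurveCoh17.hh0_hmap, AddEquiv.apply_symm_apply] at h
    rw [M1.app_mres, h, hY]

end Groth.Agent.TZ11
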